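import Cfsg.Agent.H916.RG.Pair_m3
import Cfsg.Agent.H582.Ly.Three_m3
import Cfsg.Agent.H438.Fpr.LyC
import Cfsg.Agent.H511.Cyc.LyOrd
import Cfsg.Agent.H314.LyOrb.NSeven
import Cfsg.Agent.HN.Classes
import Cfsg.Agent.HN.AutHS
import Cfsg.Agent.HN.IotaCent
import Cfsg.Agent.H660.RR.Crd_m3
import Cfsg.Agent.H904.HSIso
import Cfsg.Agent.H536.TC.RowHS_m3
import Cfsg.Agent.H715.Fpr.Row4_m3
import Cfsg.Agent.H715.Fpr.HS
import Cfsg.Agent.H31.RC.Spor.Gen
import Cfsg.Agent.KFacts.Th.Main
import Cfsg.Agent.H555.Hall.ThCent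
import Cfsg.Agent.H478.Th3C
import Cfsg.Agent.H491.PB.ThC
import Cfsg.Agent.H502.TO.StarB
import Cfsg.Agent.H723.Spor.Th
import Cfsg.Agent.H861.Gen.CoOne
import Cfsg.Agent.FastGrp
import Cfsg.Agent.Prune
set_option linter.all false

section
prune_inst 0x7fbdfefbbff8addfffff7e7ffefddffff9fcffffffdffbfbffedebffefdf6b67fbe5fb8fffef58ff9ef7e29630f87bd3fbfffeffeffbdc7ffffd5ff47ffbff9fedffbfad51f6b83e1ffe6ffffbf97fbfffffffffffffffffffffffffffffffffffffffffffff

-- part: H182/RG/Ly_mg
section
prune_inst 0x10000000000000100000000000000000100002000000000000000000000000000000000000000000000000000000000000000000000000000000000000000000000000000000000000000000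
set_option linter.all false
open scoped Cfsg.Agent.FastGrp

-- part: H182/RG/LyA
section
/-!
# S3509, sporadic row `Ly`: the rules (helper182)

* `not_inv` : no cover `{t, u}` with an involution `t` (the normal closure of `u` in `C(t) = 2.A₁₁` contains `t`);
* `not_fv` : no cover with an element of order 5 of 5-cycle type (rule A with `O₅(C(f)) = 5^{1+4}`);
* `not_tdata` : no cover with an element `x₀`, `C(x₀) = 3.McL` (M-rule);
* `four_act` : a four-group acts on a group with nontrivial fixed points.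
-/

set_option autoImplicit false

namespace Cfsg.Agent.H182.RG.Ly

open Cfsg Subgroup MulAction Equiv Cfsg.Agent.H106.RC Cfsg.Agent.H867.RC Cfsg.Agent.SporRec.TwoAn
open Cfsg.Agent.TypeM.Two Cfsg.Agent.CpAutLy Cfsg.Agent.H582.Ly

/-- a nontrivial normal subgroup of a double cover of an alternating group contains the central involution -/
theorem z_mem_of_normal {α : Type*} [Fintype α] [DecidableEq α] {C : Type*} [Group C] (K : Cover α C)
    (hα : 5 ≤ Fintype.card α) (M : Subgroup C) (hn : ∀ g : C, ∀ m ∈ M, g * m * g⁻¹ ∈ M) {m₀ : C} (hm₀ : m₀ ∈ M)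
    (hm1 : m₀ ≠ 1) : K.z ∈ M := by
  by_contra hz
  have hsimple : IsSimpleGroup (alternatingGroup α) :=
    alternatingGroup.isSimpleGroup (by rw [Nat.card_eq_fintype_card]; exact hα)
  have hN : ((M.map K.π).subgroupOf (alternatingGroup α)).Normal := by
    constructor
    rintro n hn' ⟨g, hg⟩
    rw [mem_subgroupOf] at hn' ⊢
    obtain ⟨m, hm, hm'⟩ := hn'
    obtain ⟨c, rfl⟩ := K.exists_lift hg
    refine ⟨c * m * c⁻¹, hn c m hm, ?_⟩
    rw [map_mul, map_mul, map_inv, hm']
    rfl
  rcases hN.eq_bot_or_eq_top with hb | ht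
  · have h1 : (⟨K.π m₀, K.mem_alternating m₀⟩ : alternatingGroup α) ∈
        (M.map K.π).subgroupOf (alternatingGroup α) := by
      rw [mem_subgroupOf]
      exact ⟨m₀, hm₀, rfl⟩
    rw [hb, mem_bot] at h1
    rcases (K.ker m₀).1 (congrArg Subtype.val h1) with h2 | h2
    · exact hm1 h2
    · exact hz (h2 ▸ hm₀)
  · obtain ⟨e⟩ : Nonempty (Fin 4 ↪ α) :=
      Function.Embedding.nonempty_of_card_le (by simpa only [_root_.Fintype.card_fin] using (by omega : 4 ≤ Fintype.card α))
    have hne : ∀ i j : Fin 4, i ≠ j → e i ≠ e j := fun i j h h' => h (e.injective h')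
    have hmem := Cover.swap_mul_swap_mem (e 0) (e 1) (e 2) (e 3) (hne _ _ (by decide)) (hne _ _ (by decide))
    have h1 : (⟨_, hmem⟩ : alternatingGroup α) ∈ (M.map K.π).subgroupOf (alternatingGroup α) := by
      rw [ht]; exact mem_top _
    rw [mem_subgroupOf] at h1
    obtain ⟨m, hm, hm'⟩ := h1
    have h2 := K.dbl _ _ _ _ (hne _ _ (by decide)) (hne _ _ (by decide)) (hne _ _ (by decide))
      (hne _ _ (by decide)) (hne _ _ (by decide)) (hne _ _ (by decide)) m hm'
    exact hz (h2 ▸ M.mul_mem hm hm)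

/-- the normal closure of `u` in `C(x)` -/
def Wn {G : Type*} [Group G] (x u : G) : Subgroup G := _root_.Subgroup.closure {z | ∃ c : G, c * x = x * c ∧ z = c * u * c⁻¹}

theorem conj_mem_Wn {G : Type*} [Group G] {x u g w : G} (hg : g * x = x * g) (hw : w ∈ Wn x u) :
    g * w * g⁻¹ ∈ Wn x u := by
  unfold Wn at hw
  refine closure_induction (p := fun w _ => g * w * g⁻¹ ∈ Wn x u) ?_ ?_ ?_ ?_ hw
  · rintro _ ⟨c, hc, rfl⟩
    refine subset_closure ⟨g * c, ?_, by group⟩
    rw [mul_assoc, hc, ← mul_assoc, hg, mul_assoc]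
  · rw [mul_one, mul_inv_cancel]
    exact one_mem _
  · intro a b _ _ ha hb
    have e : g * (a * b) * g⁻¹ = (g * a * g⁻¹) * (g * b * g⁻¹) := by group
    rw [e]
    exact mul_mem ha hb
  · intro a _ ha
    have e : g * a⁻¹ * g⁻¹ = (g * a * g⁻¹)⁻¹ := by group
    rw [e]
    exact inv_mem ha

theorem self_mem_Wn {G : Type*} [Group G] (x u : G) : u ∈ Wn x u :=
  subset_closure ⟨1, by rw [one_mul, mul_one], by rw [one_mul, inv_one, mul_one]⟩

theorem Wn_le {G : Type*} [Group G] {x u : G} (hu : u * x = x * u) : Wn x u ≤ centralizer ({x} : Set G) := by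
  unfold Wn
  rw [closure_le]
  rintro _ ⟨c, hc, rfl⟩
  have h1 : Commute c x := hc
  have h2 : Commute u x := hu
  exact mem_centralizer_singleton_iff.2 ((h1.mul_left h2).mul_left h1.inv_left).eq

/-! ### involutions -/

/-- **no cover `{t, u}` with an involution** -/
theorem not_inv {G Ω : Type*} [Group G] [MulAction G Ω] [Nonempty Ω] {N : Subgroup G} (hE : Env G Ω N) (L : MT 11 G)
    {t u : G} (ht : orderOf t = 2) (hu1 : u ≠ 1) (hut : u * t = t * u) (hc : ∀ ω : Ω, t • ω = ω ∨ u • ω = ω) :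
    False := by
  obtain ⟨h1, h2⟩ := MT.sq_of_orderOf ht
  obtain ⟨L', rfl⟩ := L.exists_rebase h1 h2
  refine rulePair hE h2 hc ?_
  have hz : L'.K.z ∈ (Wn L'.t u).comap (centralizer ({L'.t} : Set G)).subtype := by
    refine z_mem_of_normal L'.K (by simp) _ ?_ (m₀ := ⟨u, mem_centralizer_singleton_iff.2 hut⟩) (self_mem_Wn _ _)
      fun h => hu1 (congrArg Subtype.val h)
    intro g m hm
    exact conj_mem_Wn (mem_centralizer_singleton_iff.1 g.2) hm
  have h3 : (L'.K.z : G) ∈ Wn L'.t u := hz
  rw [L'.hz] at h3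
  exact h3

/-! ### elements of order five -/

theorem eq_one_of_coprime {G : Type*} [Group G] {g : G} {a b : ℕ} (ha : g ^ a = 1) (hb : g ^ b = 1)
    (h : Nat.Coprime a b) : g = 1 := by
  have h1 := Nat.dvd_gcd (orderOf_dvd_of_pow_eq_one ha) (orderOf_dvd_of_pow_eq_one hb)
  rw [Nat.coprime_iff_gcd_eq_one.1 h, Nat.dvd_one, orderOf_eq_one_iff] at h1
  exact h1

/-- **no cover with an element of order 5 of 5-cycle type** -/
theorem not_fv {G Ω ι : Type*} [Group G] [Finite G] [Finite ι] [MulAction G Ω] [Nonempty Ω] {N : Subgroup G}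
    (hE : Env G Ω N) {x : ι → G} {r : ι → ℕ} (hx : PF x r) (hc : Cov Ω x) {i₀ : ι} {t : G} {K S : Subgroup G}
    (h : Fv t (x i₀) K S) : False := by
  have hr : r i₀ = 5 := by
    have h1 := orderOf_dvd_of_pow_eq_one (hx.pow i₀)
    rw [h.h.f5] at h1
    exact ((Nat.prime_dvd_prime_iff_eq Nat.prime_five (hx.prime i₀)).1 h1).symm
  refine ruleA' hE hx hc Nat.prime_five K h.isPGroup_K ?_ (z := x i₀) (hx.ne i₀) h.h.cent ?_ ?_ ?_
  · intro i
    refine mem_normalizer_fintype fun k hk => h.h.norm (x i) ?_ k hk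
    rw [hx.comm, mul_inv_cancel_right]
    exact mem_zpowers _
  · intro c hc hcc _ hc1
    have h1 := h.center c hc fun k hk => (hcc k hk).symm
    have h2 : zpowers c ≤ zpowers (x i₀) := zpowers_le.2 h1
    have h3 : orderOf c = 5 := by
      have h4 := orderOf_dvd_of_mem_zpowers h1
      rw [h.h.f5] at h4
      exact ((Nat.dvd_prime Nat.prime_five).1 h4).resolve_left fun h5 => hc1 (orderOf_eq_one_iff.1 h5)
    have h5 : zpowers c = zpowers (x i₀) :=
      eq_of_le_of_card_ge h2 (by rw [Nat.card_zpowers, Nat.card_zpowers, h3, h.h.f5])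
    rw [h5]
    exact mem_zpowers _
  · intro i hi
    by_contra hcon
    push Not at hcon
    have h1 := h.mem_of_comm (hx.comm i i₀) fun k hk => (hcon k hk).symm
    refine hx.ne i (eq_one_of_coprime (hx.pow i) (h.pow_five _ h1) ?_)
    exact (Nat.coprime_primes (hx.prime i) Nat.prime_five).2 hi
  · intro i hi
    have h1 : i = i₀ := hx.inj (by rw [hi, hr])
    rw [h1]
    exact mem_zpowers _

/-! ### `C(x₀) = 3.McL` -/

/-- **no cover with an element with centralizer `3.McL`** -/
theorem not_tdata (hM : ∀ (T : Type) [Group T] [Finite T], Spor.IsoMcL T → RC T) {G Ω ι : Type} [Group G] [Finite G]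
    [Finite ι] [MulAction G Ω] [Nonempty Ω] {N : Subgroup G} (hE : Env G Ω N) {x : ι → G} {r : ι → ℕ} (hx : PF x r)
    (hc : Cov Ω x) {i₀ : ι} (h : TData (x i₀)) : False := by
  have hr : r i₀ = 3 := by
    have h1 := orderOf_dvd_of_pow_eq_one (hx.pow i₀)
    rw [h.ord] at h1
    exact ((Nat.prime_dvd_prime_iff_eq Nat.prime_three (hx.prime i₀)).1 h1).symm
  apply hx.ne i₀
  refine hE.single fun ω => ?_
  obtain ⟨-, hs, hcard, -⟩ := Cfsg.Agent.TypeM.FactsMcL.facts h.mcl.quot
  have hperf : ⁅centralizer ({x i₀} : Set G), centralizer ({x i₀} : Set G)⁆ = centralizer ({x i₀} : Set G) := by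
    have h1 : _root_.commutator ↥(centralizer ({x i₀} : Set G)) = ⊤ := Comp.perfect_of_quasisimple h.mcl.quasi
    have h2 := map_subtype_commutator (centralizer ({x i₀} : Set G))
    rw [h1, ← MonoidHom.range_eq_map, range_subtype] at h2
    exact h2.symm
  have hnc : ¬ IsMulCommutative (↥(centralizer ({x i₀} : Set G)) ⧸ center ↥(centralizer ({x i₀} : Set G))) := by
    intro hcm
    have hp : IsSimpleGroup (↥(centralizer ({x i₀} : Set G)) ⧸ center ↥(centralizer ({x i₀} : Set G))) := hs
    have h1 : Nat.Prime (Nat.card (↥(centralizer ({x i₀} : Set G)) ⧸ center ↥(centralizer ({x i₀} : Set G)))) := by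
      let _ : CommGroup (↥(centralizer ({x i₀} : Set G)) ⧸ center ↥(centralizer ({x i₀} : Set G))) :=
        { (inferInstance : Group (↥(centralizer ({x i₀} : Set G)) ⧸ center ↥(centralizer ({x i₀} : Set G)))) with
          mul_comm := hcm.is_comm.comm }
      exact IsSimpleGroup.prime_card
    rw [hcard] at h1
    revert h1
    norm_num
  rcases mrule_RC hs hnc x r hx.prime hx.inj hx.pow hx.comm (centralizer ({x i₀} : Set G)) hperf
    (QuotientGroup.mk' (center ↥(centralizer ({x i₀} : Set G)))) (QuotientGroup.mk'_surjective _)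
    (by rw [QuotientGroup.ker_mk']) (fun i => le_normalizer (mem_centralizer_singleton_iff.2 (hx.comm i i₀)))
    (hM _ h.mcl.quot) ω (fun m _ => by
      obtain ⟨i, hi⟩ := hc (m • ω)
      exact ⟨i, hi⟩) with h1 | ⟨j, hj, hjω⟩
  · exact h1 (mem_centralizer_singleton_iff.2 rfl)
  · have h2 : (⟨x j, mem_centralizer_singleton_iff.2 (hx.comm j i₀)⟩ : ↥(centralizer ({x i₀} : Set G))) ∈
        center ↥(centralizer ({x i₀} : Set G)) :=
      mem_center_iff.2 fun m => Subtype.ext (hj m m.2).symm
    have h3 : x j ^ 3 = 1 := by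
      have h4 := pow_card_eq_one' (G := center ↥(centralizer ({x i₀} : Set G))) (x := ⟨_, h2⟩)
      rw [h.mcl.zcard] at h4
      exact congrArg (fun v => ((v : ↥(centralizer ({x i₀} : Set G))) : G)) (congrArg Subtype.val h4)
    have h5 : r j = 3 := by
      by_contra hne
      exact hx.ne j (eq_one_of_coprime (hx.pow j) h3 ((Nat.coprime_primes (hx.prime j) Nat.prime_three).2 hne))
    have h6 : j = i₀ := hx.inj (by rw [h5, hr])
    rw [← h6]
    exact hjω

/-! ### a four-group acting on a group -/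

section Four

variable {G : Type*} [Group G] [Finite G]

theorem inv_of_fpf {Y : Subgroup G} {a : G} (haa : a * a = 1) (ha : a ∈ normalizer (Y : Set G))
    (h : Y ⊓ centralizer {a} = ⊥) : ∀ y ∈ Y, a * y * a⁻¹ = y⁻¹ := by
  let φ : Y →* Y :=
    { toFun := fun y => ⟨a * y * a⁻¹, (mem_normalizer_iff.1 ha y).1 y.2⟩
      map_one' := Subtype.ext (by show a * 1 * a⁻¹ = 1; group)
      map_mul' := fun x y => Subtype.ext (by show a * (x * y) * a⁻¹ = (a * x * a⁻¹) * (a * y * a⁻¹); group) }
  have h1 : MonoidHom.FixedPointFree φ := by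
    rintro ⟨y, hy⟩ h2
    have h3 : a * y * a⁻¹ = y := congrArg Subtype.val h2
    have h4 : y ∈ Y ⊓ centralizer {a} := ⟨hy, mem_centralizer_singleton_iff.2 (by
      calc y * a = (a * y * a⁻¹) * a := by rw [h3]
        _ = a * y := by group)⟩
    rw [h, mem_bot] at h4
    exact Subtype.ext h4
  have h2 : Function.Involutive φ := by
    rintro ⟨y, hy⟩
    apply Subtype.ext
    show a * (a * y * a⁻¹) * a⁻¹ = y
    calc a * (a * y * a⁻¹) * a⁻¹ = (a * a) * y * (a * a)⁻¹ := by group
      _ = y := by rw [haa]; group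
  intro y hy
  exact congrArg Subtype.val (congrFun (h1.coe_eq_inv_of_involutive h2) ⟨y, hy⟩)

theorem four_act {Y : Subgroup G} (hY : Y ≠ ⊥) {a b : G} (haa : a * a = 1) (hbb : b * b = 1)
    (ha : a ∈ normalizer (Y : Set G)) (hb : b ∈ normalizer (Y : Set G)) :
    (Y ⊓ centralizer {a} : Subgroup G) ≠ ⊥ ∨ (Y ⊓ centralizer {b} : Subgroup G) ≠ ⊥ ∨
      (Y ⊓ centralizer {a * b} : Subgroup G) ≠ ⊥ := by
  by_contra hcon
  push Not at hcon
  obtain ⟨h1, h2, h3⟩ := hcon
  have i1 := inv_of_fpf haa ha h1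
  have i2 := inv_of_fpf hbb hb h2
  apply hY
  rw [eq_bot_iff, ← h3]
  intro y hy
  refine ⟨hy, mem_centralizer_singleton_iff.2 ?_⟩
  have h4 : a * b * y * (a * b)⁻¹ = y := by
    calc a * b * y * (a * b)⁻¹ = a * (b * y * b⁻¹) * a⁻¹ := by group
      _ = a * y⁻¹ * a⁻¹ := by rw [i2 y hy]
      _ = (a * y * a⁻¹)⁻¹ := by group
      _ = y := by rw [i1 y hy, inv_inv]
  calc y * (a * b) = (a * b * y * (a * b)⁻¹) * (a * b) := by rw [h4]
    _ = a * b * y := by group

omit [Finite G] in
/-- the group generated by two commuting involutions -/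
theorem isPGroup_four {a b : G} (haa : a * a = 1) (hbb : b * b = 1) (hab : a * b = b * a) :
    IsPGroup 2 (closure ({a, b} : Set G)) := by
  have h1 : ∀ y ∈ _root_.Subgroup.closure ({a, b} : Set G), y = 1 ∨ y = a ∨ y = b ∨ y = a * b := by
    intro y hy
    have hba : b * a = a * b := hab.symm
    refine closure_induction (p := fun y _ => y = 1 ∨ y = a ∨ y = b ∨ y = a * b) ?_ (Or.inl rfl) ?_ ?_ hy
    · rintro y (rfl | rfl)
      · exact Or.inr (Or.inl rfl)
      · exact Or.inr (Or.inr (Or.inl rfl))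
    · have e1 : a * (a * b) = b := by rw [← mul_assoc, haa, one_mul]
      have e2 : b * (a * b) = a := by rw [hab, ← mul_assoc, hbb, one_mul]
      have e3 : a * b * a = b := by rw [mul_assoc, hba, e1]
      have e4 : a * b * b = a := by rw [mul_assoc, hbb, mul_one]
      have e5 : a * b * (a * b) = 1 := by rw [← mul_assoc, e3, hbb]
      rintro u v - - (rfl | rfl | rfl | rfl) (rfl | rfl | rfl | rfl) <;>
        simp only [one_mul, mul_one, haa, hbb, hba, e1, e2, e3, e4, e5, true_or, or_true]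
    · have e1 : a⁻¹ = a := inv_eq_of_mul_eq_one_left haa
      have e2 : b⁻¹ = b := inv_eq_of_mul_eq_one_left hbb
      rintro u - (rfl | rfl | rfl | rfl) <;> simp only [inv_one, mul_inv_rev, e1, e2, hba, true_or, or_true]
  rintro ⟨y, hy⟩
  refine ⟨1, Subtype.ext ?_⟩
  show y ^ 2 ^ 1 = 1
  rw [pow_one, pow_two]
  rcases h1 y hy with rfl | rfl | rfl | rfl
  · rw [one_mul]
  · exact haa
  · exact hbb
  · calc a * b * (a * b) = a * (b * a) * b := by group
      _ = a * (a * b) * b := by rw [hab]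
      _ = (a * a) * (b * b) := by group
      _ = 1 := by rw [haa, hbb, one_mul]

/-- a four-group acts on a normal subgroup `W` of odd order: an element of order `q` of `W` commutes with an involution of
a four-group -/
theorem exists_comm {q : ℕ} (hq : q.Prime) (W : Subgroup G) [W.Normal] (hW : Odd (Nat.card W)) (hqW : q ∣ Nat.card W)
    {a b : G} (haa : a * a = 1) (hbb : b * b = 1) (hab : a * b = b * a) (ha1 : a ≠ 1) (hb1 : b ≠ 1)
    (hab1 : a * b ≠ 1) : ∃ v w : G, v * v = 1 ∧ v ≠ 1 ∧ w ∈ W ∧ orderOf w = q ∧ w * v = v * w := by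
  have hf : Fact q.Prime := ⟨hq⟩
  let P : Sylow q W := default
  have hP1 : (P : Subgroup W) ≠ ⊥ := by
    intro h
    have h1 := P.card_eq_multiplicity
    rw [h, card_bot] at h1
    have h2 : (Nat.card W).factorization q ≠ 0 :=
      (Nat.Prime.factorization_pos_of_dvd hq Nat.card_pos.ne' hqW).ne'
    have h3 := Nat.one_lt_pow h2 hq.one_lt
    omega
  set Y : Subgroup G := (P : Subgroup W).map W.subtype with hY
  have hYW : Y ≤ W := map_subtype_le _
  have hfr : normalizer (Y : Set G) ⊔ W = ⊤ := by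
    have := P.normalizer_sup_eq_top
    exact this
  have hidx : ¬ 2 ∣ (normalizer (Y : Set G)).index := by
    have h1 := Frat.card_sup_mul (K := W) (H := normalizer (Y : Set G)) (by
      rw [normalizer_eq_top_iff.2 (inferInstance : W.Normal)]; exact le_top)
    rw [sup_comm, hfr, card_top, ← (normalizer (Y : Set G)).card_mul_index, mul_comm (Nat.card W), mul_assoc] at h1
    have h2 := Nat.eq_of_mul_eq_mul_left Nat.card_pos h1
    intro h3
    exact (Nat.not_even_iff_odd.2 hW) (even_iff_two_dvd.2 (h2 ▸ h3.mul_right _))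
  obtain ⟨g, hg⟩ := exists_conj_le Nat.prime_two (isPGroup_four haa hbb hab) hidx
  have hYp : IsPGroup q Y := P.isPGroup'.map _
  have hYb : Y ≠ ⊥ := by
    intro h
    apply hP1
    rw [hY] at h
    exact (Subgroup.map_eq_bot_iff_of_injective _ (subtype_injective _)).1 h
  have hm : ∀ x y : G, (g * x * g⁻¹) * (g * y * g⁻¹) = g * (x * y) * g⁻¹ := fun x y => by group
  have hne : ∀ x : G, x ≠ 1 → g * x * g⁻¹ ≠ 1 := fun x hx h => hx (by
    have h1 : x = g⁻¹ * (g * x * g⁻¹) * g := by group
    rw [h1, h]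
    group)
  have hsq : ∀ x : G, x * x = 1 → (g * x * g⁻¹) * (g * x * g⁻¹) = 1 := fun x hx => by
    rw [hm, hx]
    group
  have habab : (a * b) * (a * b) = 1 := by
    calc a * b * (a * b) = a * (b * a) * b := by group
      _ = a * (a * b) * b := by rw [hab]
      _ = (a * a) * (b * b) := by group
      _ = 1 := by rw [haa, hbb, one_mul]
  have fin : ∀ v : G, v * v = 1 → v ≠ 1 → (Y ⊓ centralizer {v} : Subgroup G) ≠ ⊥ →
      ∃ v w : G, v * v = 1 ∧ v ≠ 1 ∧ w ∈ W ∧ orderOf w = q ∧ w * v = v * w := by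
    intro v hv hv1 hb
    obtain ⟨n, hn⟩ := (hYp.to_le (inf_le_left : Y ⊓ centralizer {v} ≤ Y)).exists_card_eq
    have hn0 : n ≠ 0 := by
      rintro rfl
      rw [pow_zero, card_eq_one] at hn
      exact hb hn
    obtain ⟨⟨w, hw⟩, hwo⟩ := exists_prime_orderOf_dvd_card' (G := (Y ⊓ centralizer {v} : Subgroup G)) q
      (by rw [hn]; exact dvd_pow_self q hn0)
    rw [← orderOf_coe] at hwo
    exact ⟨v, w, hv, hv1, hYW hw.1, hwo, mem_centralizer_singleton_iff.1 hw.2⟩
  rcases four_act hYb (hsq a haa) (hsq b hbb) (hg a (_root_.Subgroup.subset_closure (by simp))) (hg b (_root_.Subgroup.subset_closure (by simp)))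
    with h | h | h
  · exact fin _ (hsq a haa) (hne a ha1) h
  · exact fin _ (hsq b hbb) (hne b hb1) h
  · rw [hm] at h
    exact fin _ (hsq _ habab) (hne _ hab1) h

end Four

end Cfsg.Agent.H182.RG.Ly
end

-- part: H182/RG/Ly
section
/-!
# S3509, sporadic row `Ly` (helper182)

No two elements of different prime orders at least 5 commute, so a minimal cover has at most three members, of orders in
`{2}`, `{3}`, `{q}`, `q ≥ 5`.

* `{2, q}`, `{2, 3}` : `not_inv`;
* the member `y` of order 3 has centralizer `3.McL` : `not_tdata`;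
* otherwise `{3, q}` : `y` commutes with a four-group `V`; the normal closure `W` of `u` in `C(y)` has odd order by
  `not_inv`, so some `v ∈ V` commutes with an element `w ∈ W` of order `q` and `{y, w}` is a cover; `q = 5`, `w` is of 5-cycle
  type in `C(v) = 2.A₁₁`: `not_fv`;
* `{2, 3, q}` : the same with `v` the member of order 2.
-/

set_option autoImplicit false
set_option maxRecDepth 100000

namespace Cfsg.Agent.H182.RG.Ly

open Cfsg Subgroup MulAction Equiv Cfsg.Agent.H106.RC Cfsg.Agent.H867.RC Cfsg.Agent.SporRec.TwoAn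
open Cfsg.Agent.TypeM.Two Cfsg.Agent.CpAutLy Cfsg.Agent.H582.Ly

theorem fin : Finite Spor.Ly := Cfsg.Agent.Ly.Setup.finite_ly

theorem card : Nat.card Spor.Ly = 51765179004000000 := Cfsg.Agent.Ly.Setup.card_ly

/-- the centralizers of the elements of prime order at least 7 -/
theorem cdvd {x : Spor.Ly} {p : ℕ} (hp : p.Prime) (hx : orderOf x = p) (h7 : 7 ≤ p) :
    ∃ m, Nat.card (centralizer ({x} : Set Spor.Ly)) ∣ m ∧ ((p = 7 ∧ m = 1008) ∨ (p = 11 ∧ m = 66) ∨ (p = 31 ∧ m = 93) ∨
      (p = 37 ∧ m = 333) ∨ (p = 67 ∧ m = 67)) := by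
  have := fin
  rcases prime_cases card hp (by rw [← hx]; exact _root_.orderOf_dvd_natCard x) with h | h | h | h | h | h | h | h
  · omega
  · omega
  · omega
  · subst h
    refine ⟨1008, ?_, Or.inl ⟨rfl, rfl⟩⟩
    rw [← Cfsg.Agent.H314.LyOrb.card_normalizer_seven hx]
    refine card_dvd_of_le ?_
    rw [← centralizer_closure, ← zpowers_eq_closure]
    exact centralizer_le_normalizer _
  · subst h
    exact ⟨66, Cfsg.Agent.H438.Fpr.Ly.cent11 hx, Or.inr (Or.inl ⟨rfl, rfl⟩)⟩
  · subst h
    exact ⟨93, (Cfsg.Agent.H511.Cyc.Ly.dat31 hx).1, Or.inr (Or.inr (Or.inl ⟨rfl, rfl⟩))⟩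
  · subst h
    exact ⟨333, (Cfsg.Agent.H511.Cyc.Ly.dat37 hx).1, Or.inr (Or.inr (Or.inr (Or.inl ⟨rfl, rfl⟩)))⟩
  · subst h
    exact ⟨67, by rw [(Cfsg.Agent.H511.Cyc.Ly.dat67 hx).1], Or.inr (Or.inr (Or.inr (Or.inr ⟨rfl, rfl⟩)))⟩

theorem not_adj_aux {x y : Spor.Ly} {p q : ℕ} (hp : p.Prime) (hq : q.Prime) (hx : orderOf x = p) (hy : orderOf y = q)
    (h5 : 7 ≤ p) (h5' : 5 ≤ q) (hne : p ≠ q) (hxy : y * x = x * y) : False := by
  have := fin
  obtain ⟨m, h1, h2⟩ := cdvd hp hx h5
  have h3 : q ∣ m := by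
    have h4 := (centralizer ({x} : Set Spor.Ly)).orderOf_dvd_natCard (mem_centralizer_singleton_iff.2 hxy)
    rw [hy] at h4
    exact h4.trans h1
  rcases prime_cases card hq (by rw [← hy]; exact _root_.orderOf_dvd_natCard y) with h | h | h | h | h | h | h | h <;>
    subst h <;> rcases h2 with ⟨rfl, rfl⟩ | ⟨rfl, rfl⟩ | ⟨rfl, rfl⟩ | ⟨rfl, rfl⟩ | ⟨rfl, rfl⟩ <;> omega

/-- elements of different prime orders at least 5 do not commute -/
theorem not_adj {x y : Spor.Ly} {p q : ℕ} (hp : p.Prime) (hq : q.Prime) (hx : orderOf x = p) (hy : orderOf y = q)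
    (h5 : 5 ≤ p) (h5' : 5 ≤ q) (hne : p ≠ q) (hxy : x * y = y * x) : False := by
  have h6 : p ≠ 6 := fun h => by rw [h] at hp; exact absurd hp (by norm_num)
  have h6' : q ≠ 6 := fun h => by rw [h] at hq; exact absurd hq (by norm_num)
  rcases Nat.lt_or_ge p 7 with h | h
  · exact not_adj_aux hq hp hy hx (by omega) h5 (Ne.symm hne) hxy
  · exact not_adj_aux hp hq hx hy h h5' hne hxy.symm

/-- five is the only prime `≥ 5` dividing the order of `C(y) ∩ C(t)` for `y` not of type `3` -/
theorem five_of_dvd {q : ℕ} (hq : q.Prime) (hqG : q ∣ 51765179004000000) (h5 : 5 ≤ q) {n : ℕ} (hn : n = 2160 ∨ n = 324)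
    (hd : q ∣ n) : q = 5 := by
  rcases prime_cases card hq (by rw [card]; exact hqG) with h | h | h | h | h | h | h | h <;> subst h <;>
    rcases hn with rfl | rfl <;> omega

/-- an element of order 5 commuting with `t` and with an element of order 3 of `C(t)` is of type `5` -/
theorem fv_of_comm (L : MT 11 Spor.Ly) {w y : Spor.Ly} (hw : orderOf w = 5) (hwt : w * L.t = L.t * w)
    (hy : orderOf y = 3) (hyt : y * L.t = L.t * y) (hwy : w * y = y * w) : ∃ K S : Subgroup Spor.Ly, Fv L.t w K S := by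
  have := fin
  have hf5 : Fact (Nat.Prime 5) := ⟨Nat.prime_five⟩
  set w' : centralizer ({L.t} : Set Spor.Ly) := ⟨w, mem_centralizer_singleton_iff.2 hwt⟩ with hw'
  set y' : centralizer ({L.t} : Set Spor.Ly) := ⟨y, mem_centralizer_singleton_iff.2 hyt⟩ with hy'
  have ow : orderOf (L.K.π w') = 5 := Cfsg.Agent.H438.Fpr.Ly.pi_order L Nat.prime_five (by norm_num)
    ((Subgroup.orderOf_mk w _).trans hw)
  have oy : orderOf (L.K.π y') = 3 := Cfsg.Agent.H438.Fpr.Ly.pi_order L Nat.prime_three (by norm_num)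
    ((Subgroup.orderOf_mk y _).trans hy)
  have hct := Perm.cycleType_of_pow_prime_eq_one (σ := L.K.π w') (p := 5) (by rw [← ow, pow_orderOf_eq_one])
  have h2 : (L.K.π w').cycleType.sum ≤ 11 := by
    rw [(L.K.π w').sum_cycleType]
    exact (Finset.card_le_univ _).trans (by simp)
  rw [hct, Multiset.sum_replicate, smul_eq_mul] at h2
  have h3 : (L.K.π w').cycleType.card ≠ 0 := by
    intro h4
    rw [Multiset.card_eq_zero, Perm.cycleType_eq_zero] at h4
    rw [h4, orderOf_one] at ow
    norm_num at ow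
  have h4 : (L.K.π w').cycleType.card ≠ 2 := by
    intro h5
    rw [h5] at hct
    have h6 : L.K.π y' ∈ centralizer ({L.K.π w'} : Set (Perm (Fin 11))) := by
      rw [mem_centralizer_singleton_iff, ← map_mul, ← map_mul]
      congr 1
      exact Subtype.ext hwy.symm
    have h7 := (centralizer ({L.K.π w'} : Set (Perm (Fin 11)))).orderOf_dvd_natCard h6
    rw [oy, Perm.nat_card_centralizer, hct] at h7
    revert h7
    decide
  have h5 : (L.K.π w').cycleType.card = 1 := by omega
  rw [h5] at hct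
  exact fv_of_type L (by rw [← hw]; exact pow_orderOf_eq_one w) hwt hct

/-- **no cover `{y, u}` with `y` of order 3, not conjugate to `x₀`** -/
theorem not_three {Ω : Type*} [MulAction Spor.Ly Ω] [Nonempty Ω] {N : Subgroup Spor.Ly} (hE : Env Spor.Ly Ω N)
    (L : MT 11 Spor.Ly) {x₀ : Spor.Ly} (h₀ : TData x₀) {y u : Spor.Ly} {q : ℕ} (hq : q.Prime) (h5 : 5 ≤ q)
    (hy : orderOf y = 3) (hu : orderOf u = q) (hne : ¬ ∃ g : Spor.Ly, g * y * g⁻¹ = x₀) (huy : u * y = y * u)
    (hc : ∀ ω : Ω, y • ω = ω ∨ u • ω = ω) : False := by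
  have hfin := fin
  have hf2 : Fact (Nat.Prime 2) := ⟨Nat.prime_two⟩
  have hy1 : y ≠ 1 := fun h => by
    rw [h, orderOf_one] at hy
    norm_num at hy
  have key : ∀ w ∈ Wn y u, ∀ ω : Ω, y • ω = ω ∨ w • ω = ω := fun w hw => pair_mv hc hw
  have hWle : Wn y u ≤ centralizer ({y} : Set Spor.Ly) := Wn_le huy
  rcases Nat.even_or_odd (Nat.card (Wn y u)) with hev | hodd
  · obtain ⟨⟨w, hw⟩, hwo⟩ := exists_prime_orderOf_dvd_card' (G := Wn y u) 2 (even_iff_two_dvd.1 hev)
    rw [Subgroup.orderOf_mk] at hwo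
    exact not_inv hE L hwo hy1 (mem_centralizer_singleton_iff.1 (hWle hw)).symm fun ω => (key w hw ω).symm
  · obtain ⟨s, w, hs, hw, hsw, hsy, hwy, hws⟩ := exists_four L card h₀ hy hne
    obtain ⟨s1, s2⟩ := MT.sq_of_orderOf hs
    obtain ⟨w1, w2⟩ := MT.sq_of_orderOf hw
    obtain ⟨-, sw2⟩ := MT.sq_of_orderOf hsw
    let W' : Subgroup (centralizer ({y} : Set Spor.Ly)) := (Wn y u).subgroupOf (centralizer ({y} : Set Spor.Ly))
    have hn : W'.Normal := ⟨fun n hn g => conj_mem_Wn (mem_centralizer_singleton_iff.1 g.2) hn⟩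
    have hcard : Nat.card W' = Nat.card (Wn y u) := Nat.card_congr (subgroupOfEquivOfLe hWle).toEquiv
    have hqd : q ∣ Nat.card W' := by
      rw [hcard, ← hu]
      exact (Wn y u).orderOf_dvd_natCard (self_mem_Wn y u)
    obtain ⟨v, w', hv, hv1, hw', hwo, hwv⟩ := exists_comm hq W' (by rw [hcard]; exact hodd) hqd
      (a := ⟨s, mem_centralizer_singleton_iff.2 hsy⟩) (b := ⟨w, mem_centralizer_singleton_iff.2 hwy⟩)
      (Subtype.ext s1) (Subtype.ext w1) (Subtype.ext hws.symm) (fun h => s2 (congrArg Subtype.val h))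
      (fun h => w2 (congrArg Subtype.val h)) (fun h => sw2 (congrArg Subtype.val h))
    obtain ⟨L', hL'⟩ := L.exists_rebase (s := (v : Spor.Ly)) (congrArg Subtype.val hv) fun h => hv1 (Subtype.ext h)
    have hvy : (v : Spor.Ly) * y = y * v := mem_centralizer_singleton_iff.1 v.2
    have hwy' : (w' : Spor.Ly) * y = y * w' := mem_centralizer_singleton_iff.1 w'.2
    have hwv' : (w' : Spor.Ly) * v = v * w' := congrArg Subtype.val hwv
    have hwo' : orderOf (w' : Spor.Ly) = q := by rw [Subgroup.orderOf_coe, hwo]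
    rw [← hL'] at hvy hwv'
    have hqn : q ∣ Types.nn y L'.t := by
      rw [← hwo']
      exact (centralizer ({y} : Set Spor.Ly) ⊓ centralizer ({L'.t} : Set Spor.Ly)).orderOf_dvd_natCard
        ⟨mem_centralizer_singleton_iff.2 hwy', mem_centralizer_singleton_iff.2 hwv'⟩
    have hnn : Types.nn y L'.t = 2160 ∨ Types.nn y L'.t = 324 := by
      obtain ⟨s₀, h1, h2, h3⟩ := h₀.nn
      rcases Types.nn_cases L' hy L'.orderOf_t hvy with h | h
      · exact absurd (Types.exists_conj_of_nn L' hy L'.orderOf_t hvy h h₀.ord h1 h2 h3) hne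
      · exact h
    have hq5 : q = 5 := five_of_dvd hq (by rw [← card, ← hu]; exact _root_.orderOf_dvd_natCard u) h5 hnn hqn
    subst hq5
    obtain ⟨K, S, hFv⟩ := fv_of_comm L' hwo' hwv' hy hvy.symm hwy'
    have hPF : PF (![y, (w' : Spor.Ly)]) (![3, 5] : Fin 2 → ℕ) :=
      { prime := by
          intro i
          fin_cases i
          · exact Nat.prime_three
          · exact Nat.prime_five
        inj := by decide
        pow := by
          intro i
          fin_cases i
          · show y ^ 3 = 1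
            rw [← hy, pow_orderOf_eq_one]
          · show (w' : Spor.Ly) ^ 5 = 1
            rw [← hwo', pow_orderOf_eq_one]
        ne := by
          intro i
          fin_cases i
          · exact hy1
          · show (w' : Spor.Ly) ≠ 1
            intro h
            rw [h, orderOf_one] at hwo'
            norm_num at hwo'
        comm := by
          intro i j
          fin_cases i <;> fin_cases j
          · rfl
          · exact hwy'.symm
          · exact hwy'
          · rfl }
    refine not_fv hE hPF (fun ω => ?_) (i₀ := 1) hFv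
    rcases key w' hw' ω with h | h
    · exact ⟨0, h⟩
    · exact ⟨1, h⟩

/-- **`Ly`**, given the regular cycles of the McLaughlin group -/
theorem noCov_ly (hM : ∀ (T : Type) [Group T] [Finite T], Spor.IsoMcL T → RC T) : NoCov Spor.Ly := by
  have hfin := fin
  refine noCov_of_inner (fun α => ?_) ?_
  · obtain ⟨s, hs⟩ := Cfsg.Agent.TypeM.OutLyFin.inner_ly α
    exact ⟨s, hs.symm⟩
  intro Ω _ _ _ hE ι _ x r hx hc _
  obtain ⟨L⟩ := Cfsg.Agent.TypeM.FactsLy.exists_mt_ly
  obtain ⟨x₀, h₀⟩ := exists_tdata_ly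
  have ho : ∀ i, orderOf (x i) = r i := fun i =>
    have : Fact (r i).Prime := ⟨hx.prime i⟩
    orderOf_eq_prime (hx.pow i) (hx.ne i)
  have hadj : ∀ i j, 5 ≤ r i → 5 ≤ r j → i = j := by
    intro i j hi hj
    by_contra hne
    exact not_adj (hx.prime i) (hx.prime j) (ho i) (ho j) hi hj (fun h => hne (hx.inj h)) (hx.comm i j)
  have h235 : ∀ i, r i = 2 ∨ r i = 3 ∨ 5 ≤ r i := by
    intro i
    have h1 := (hx.prime i).two_le
    have h4 : r i ≠ 4 := fun h => by
      have h2 := hx.prime i
      rw [h] at h2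
      exact absurd h2 (by norm_num)
    omega
  by_cases h3 : ∃ i, r i = 3
  · obtain ⟨i3, h3⟩ := h3
    by_cases hcj : ∃ g : Spor.Ly, g * x i3 * g⁻¹ = x₀
    · obtain ⟨g, hg⟩ := hcj
      refine not_tdata hM hE hx hc (i₀ := i3) ?_
      have h1 := h₀.conj g⁻¹
      rw [← hg] at h1
      have e : g⁻¹ * (g * x i3 * g⁻¹) * g⁻¹⁻¹ = x i3 := by group
      rw [e] at h1
      exact h1
    by_cases h2 : ∃ i, r i = 2
    · obtain ⟨i2, h2⟩ := h2
      by_cases hq : ∃ i, 5 ≤ r i
      · obtain ⟨iq, hq⟩ := hq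
        obtain ⟨t1, t2⟩ := MT.sq_of_orderOf ((ho i2).trans h2)
        obtain ⟨L', hL'⟩ := L.exists_rebase t1 t2
        have hty : L'.t * x i3 = x i3 * L'.t := by rw [hL']; exact hx.comm i2 i3
        have hwt : x iq * L'.t = L'.t * x iq := by rw [hL']; exact hx.comm iq i2
        have hnn : Types.nn (x i3) L'.t = 2160 ∨ Types.nn (x i3) L'.t = 324 := by
          obtain ⟨s₀, h4, h5, h6⟩ := h₀.nn
          rcases Types.nn_cases L' ((ho i3).trans h3) L'.orderOf_t hty with h | h
          · exact absurd (Types.exists_conj_of_nn L' ((ho i3).trans h3) L'.orderOf_t hty h h₀.ord h4 h5 h6) hcj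
          · exact h
        have hqn : r iq ∣ Types.nn (x i3) L'.t := by
          rw [← ho iq]
          exact (centralizer ({x i3} : Set Spor.Ly) ⊓ centralizer ({L'.t} : Set Spor.Ly)).orderOf_dvd_natCard
            ⟨mem_centralizer_singleton_iff.2 (hx.comm iq i3), mem_centralizer_singleton_iff.2 hwt⟩
        have hq5 : r iq = 5 := five_of_dvd (hx.prime iq) (by rw [← card, ← ho iq]; exact _root_.orderOf_dvd_natCard _) hq
          hnn hqn
        obtain ⟨K, S, hFv⟩ := fv_of_comm L' ((ho iq).trans hq5) hwt ((ho i3).trans h3) hty.symm (hx.comm iq i3)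
        exact not_fv hE hx hc hFv
      · refine not_inv hE L (t := x i2) (u := x i3) ((ho i2).trans h2) (hx.ne i3) (hx.comm i3 i2) fun ω => ?_
        obtain ⟨i, hi⟩ := hc ω
        rcases h235 i with h | h | h
        · rw [hx.inj (h.trans h2.symm)] at hi
          exact Or.inl hi
        · rw [hx.inj (h.trans h3.symm)] at hi
          exact Or.inr hi
        · exact absurd ⟨i, h⟩ hq
    · obtain ⟨j, hj⟩ := hc.two hE hx.ne i3
      have hj5 : 5 ≤ r j := by
        rcases h235 j with h | h | h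
        · exact absurd ⟨j, h⟩ h2
        · exact absurd (hx.inj (h.trans h3.symm)) hj
        · exact h
      refine not_three hE L h₀ (hx.prime j) hj5 ((ho i3).trans h3) (ho j) hcj (hx.comm j i3) fun ω => ?_
      obtain ⟨i, hi⟩ := hc ω
      rcases h235 i with h | h | h
      · exact absurd ⟨i, h⟩ h2
      · rw [hx.inj (h.trans h3.symm)] at hi
        exact Or.inl hi
      · rw [hadj i j h hj5] at hi
        exact Or.inr hi
  · by_cases h2 : ∃ i, r i = 2
    · obtain ⟨i2, h2⟩ := h2
      obtain ⟨j, hj⟩ := hc.two hE hx.ne i2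
      have hj5 : 5 ≤ r j := by
        rcases h235 j with h | h | h
        · exact absurd (hx.inj (h.trans h2.symm)) hj
        · exact absurd ⟨j, h⟩ h3
        · exact h
      refine not_inv hE L (t := x i2) (u := x j) ((ho i2).trans h2) (hx.ne j) (hx.comm j i2) fun ω => ?_
      obtain ⟨i, hi⟩ := hc ω
      rcases h235 i with h | h | h
      · rw [hx.inj (h.trans h2.symm)] at hi
        exact Or.inl hi
      · exact absurd ⟨i, h⟩ h3
      · rw [hadj i j h hj5] at hi
        exact Or.inr hi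
    · have h5 : ∀ i, 5 ≤ r i := fun i => by
        rcases h235 i with h | h | h
        · exact absurd ⟨i, h⟩ h2
        · exact absurd ⟨i, h⟩ h3
        · exact h
      obtain ⟨ω⟩ := (inferInstance : Nonempty Ω)
      obtain ⟨i, -⟩ := hc ω
      obtain ⟨j, hj⟩ := hc.two hE hx.ne i
      exact hj (hadj j i (h5 j) (h5 i))

/-- **`Ly`**, given the regular cycles of the McLaughlin group -/
theorem rc_ly_of (hM : ∀ (T : Type) [Group T] [Finite T], Spor.IsoMcL T → RC T) {T : Type} [Group T] [Finite T]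
    (h : Spor.IsoLy T) : RC T := by
  obtain ⟨e⟩ := h
  have := fin
  have hs : IsSimpleGroup Spor.Ly := Cfsg.Agent.Ly.Setup.isSimple_ly
  refine RC.congr e.symm (rc_of_noCov hs ?_ (noCov_ly hM))
  intro hcm
  have h1 : Nat.Prime (Nat.card Spor.Ly) := by
    let _ : CommGroup Spor.Ly := { (inferInstance : Group Spor.Ly) with mul_comm := hcm.is_comm.comm }
    exact IsSimpleGroup.prime_card
  rw [card] at h1
  revert h1
  norm_num

/-- the McLaughlin group is not alternating -/
theorem nsa_mcl {T : Type*} [Group T] (h : Spor.IsoMcL T) : Cfsg.Agent.H873.RG.NSA T := by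
  obtain ⟨hf, hs, hcard, -⟩ := Cfsg.Agent.TypeM.FactsMcL.facts h
  refine ⟨hs, ?_, ?_⟩
  · intro hcm
    have h1 : Nat.Prime (Nat.card T) := by
      let _ : CommGroup T := { (inferInstance : Group T) with mul_comm := hcm.is_comm.comm }
      exact IsSimpleGroup.prime_card
    rw [hcard] at h1
    revert h1
    norm_num
  · rintro ⟨n, hn, ⟨e⟩⟩
    have h1 := Nat.card_congr e.toEquiv
    have : Nontrivial (Fin n) := Fin.nontrivial_iff_two_le.2 (by omega)
    rw [hcard, nat_card_alternatingGroup, Nat.card_fin] at h1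
    have h2 : Nat.factorial n = 2 * 898128000 := by
      have h3 : 2 ∣ Nat.factorial n := Nat.dvd_factorial (by norm_num) (by omega)
      omega
    rcases Nat.lt_or_ge n 13 with h3 | h3
    · have h4 := Nat.factorial_le (show n ≤ 12 by omega)
      rw [h2] at h4
      revert h4
      decide
    · have h4 := Nat.factorial_le h3
      rw [h2] at h4
      revert h4
      decide

/-- **S3509, the row `Ly`** -/
theorem row_ly : Cfsg.Agent.H873.RG.RowX (fun S _ => Spor.IsoLy S) := by
  intro S _ _ _ h hI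
  refine rc_ly_of (fun T _ _ hT => hI T (nsa_mcl hT) ?_) h
  obtain ⟨-, -, h1, -⟩ := Cfsg.Agent.TypeM.FactsMcL.facts hT
  obtain ⟨e⟩ := h
  rw [h1, Nat.card_congr e.toEquiv, card]
  norm_num

end Cfsg.Agent.H182.RG.Ly
end

-- part: H344/RR/HSData
section
/-!
# Higman-Sims: data for the counting argument of S3509 (helper344)

Sylow subgroups of order 125 and 9 of the permutation group on 100 points, certificates.
-/

set_option autoImplicit false

namespace Cfsg.Agent.H344.RR.HSD


/-- word of `a` -/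
def wa : List ℕ := [0, 3, 4, 3, 0, 3, 3, 1, 2, 2, 4, 2, 2, 0, 0]

/-- word of `b` -/
def wb : List ℕ := [3, 4, 2, 3, 2, 4, 3, 3, 0, 3, 0, 2, 2, 0, 3, 4, 2, 3, 2, 4, 3, 3, 0, 3, 0, 2, 2, 0, 3, 4, 2, 3, 2, 4, 3, 3, 0, 3, 0, 2, 2, 0]

/-- word of `c` -/
def wc : List ℕ := [3, 4, 3, 1, 3, 3, 4, 3, 4, 3, 1, 3, 3, 4, 3, 4, 3, 1, 3, 3, 4, 3, 4, 3, 1, 3, 3, 4]

/-- word of `u` -/
def wu : List ℕ := [3, 3]

/-- word of `v` -/
def wv : List ℕ := [3, 4, 3, 3, 0, 4, 1, 3, 3, 4, 3, 3, 0, 4, 1, 3]

/-- table of `a` -/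
def ta : ℕ := 0x6c1581384e02e0802182c0160780604501415011048024064278110700600a0160ae0241e02500a0a01083a0961841705b0561242680202a1001885505e1701182900c03c300520600741a8040a604c0684104c004310080be1442383204800c2302a0bc0d01b83905a0f42d04c0b20380003e0360fc0381c0881742803303407c2c0630760402104a

/-- table of `b` -/
def tb : ℕ := 0x980500783c0620c826825044158198210140d8120480520c0178470a20fc258160a80800685d0bc06c1401f0c609c228370240d43104e07a0700380b0881700b85f0aa0140c0130101182984305a0e00d0090941602d00c0680a80080000c15c130520c20ac278230200b0020030741802080e05c0f81c8590b6054088190041002801e0761240e842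

/-- table of `c` -/
def tc : ℕ := 0xac10c1001000e0240a84800c1341802e00612c1d0570be13c2d8450160f80203603c0140900a05009c0e8240b41780083306a14c1600e02c0201e0440aa15014839026044010510441081a0250460dc1882606403c2e81c01a10023050018050308190940601c0490341701e86305e05c1082b0000b43005203e0ec2c02a09c164208620980fc0d847

/-- table of `u` -/
def tu : ℕ := 0x741883084c0be164120180b6180268630940782184102e1480a8310a81182f05a0681201b85704e0a02280905e1582781b07e1741e85c0a616015813044068258350720e01482a0aa11c078510660482804e05c0080503e01c124128030881082000103a0500683c076000160360640c01682002202c038260460840f81c0320180b00402003004005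

/-- table of `v` -/
def tv : ℕ := 0x961883086008a0c81583c0b61681c0350a60782a825058148250140420900984c09205c3183b0400f81e8400861580503000c0e42f81802a0d0230000740381103709c0581b04405e040088570500240d05d006150130330a01600601c03a1080904705402c0685c0a21782402300a07c0780805a0c40384f0520080d82e0320102683f00210413859

/-- codes of the elements -/
def cod : ℕ := 0x21505c82c611276f451f2931b50063c10014ec68a8681140cb0a783602899578dc202b99284f1e300423c8a602260de0b0a52e37619004e3e32642a08c75c76c451342f2085854058f2801b1e05341411b0a13a462b2a09d34a506e381010478540470b23a9e2c6a0860ae0b6250937780c28d1d080223d9264ea2f1d8515750b0804e14e0230f42988a8651ef508481761b0744c55106385012879b4c04ea18a46832409f0c636b80d882242de950b0913aca2a7a11902136240de83082ae9562328431c880643d3a65d16c501282f6184747c14c1544a8e6c001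

/-- base points -/
def bp : ℕ := 0
/-- base points -/
def bq : ℕ := 1

/-- conjugating words -/
def cws : List (List ℕ) := [[], [0], [0], [0], [0], [0, 2, 0], [0], [0, 3], [0, 3], [0], [2], [0, 2], [0], [0, 2], [0, 2], [2], [0, 2], [0, 2], [0], [0, 2], [0, 2, 0], [0], [0, 3], [0, 3], [0], [0], [0, 2], [2], [0], [0, 2], [0], [2], [0, 2, 2], [0, 2, 2, 0], [0, 2], [0, 3], [0], [2], [0], [2], [0], [2, 2], [2], [2], [2], [0, 2], [2, 2], [0], [0], [0], [0, 2], [0], [0, 2], [0, 2, 0, 2], [2, 0, 3], [0], [0], [0, 2], [0], [2], [2], [0], [2], [2, 0, 2], [2], [0, 2, 2], [0], [0, 2], [0], [0, 2], [2], [0, 3], [0], [0, 2], [0, 2], [0, 2], [2, 0, 3], [0, 2, 0, 2], [0, 2], [0], [0, 2], [0], [0, 3], [2], [0, 2], [0], [0, 2, 2], [0, 2], [0], [0, 2], [2], [2, 0, 2], [2], [0], [2], [0, 2], [0], [0], [2], [0], [0], [0, 2], [0], [2], [0, 2], [0], [0], [0], [2, 2], [0, 2], [2], [2], [2, 2], [0], [2], [2], [0], [0, 3], [2], [0], [2], [0], [0, 2], [0, 2, 2, 0], [0, 2, 2]]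

/-- tables of the products -/
def tws : List ℕ := [
  0xc6188308600be1782e85c0b61682c8580ae1582a8540a61482885009e1382684c0961282484808e118228440861082084007e0f81e83c0760e81c83806e0d81a8340660c81883005e0b81682c0560a81482804e098128240460881082003e0780e81c0360680c81802e0580a8140260480881001e0380680c0160280480800e0180280400600800800,
  0xa40042702804c038080200260d82285105e0842603903a0b42d03b0b00580e0330100500f82c02e0ac2804f0601701203a0141100584107e0c43084804e1782485904a1540883e07a11c068030241801500000e1181b85701e0543100c0c61740d0540520c80c84b0ac0e00485f00c1002500203010c0283c08416c1a81b0a60101103409a0b80f023,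
  0x1c0702f81a08e0041303e0ba04c0b0530b20140203008a168288060520d4018080040542f01f0660fc2903403a1100583604a028170400840dc0c0500461200f0620980c81d05c0b0034000220181042504901e10c0803c04e0ac1c85600e154258090241382b84609e0e01686105e0f41882102206c318200501341d814048064160600a816c15017,
  0xa007c0e0130240cc0c00706c0a82c8480440082b84309e1283080402c178070540aa0e8130420581182584d0b81101c8620181141882500c0140f05306a090138380800340882906806819030012158318210500f0008510b403c0804e0400ac0580a0280002c04105a00c0d81d02a08c0b80807c0641e8490c016c2e8370761301704705e17c1f852,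
  0x240f00b02508c1741781906615c3103107a0681104403c0e02400602a1642d84308208c0800201a0a81f005060130020030bc17c2e04200e1580f84e04e090008360a20a43000909413c2684001e0b02a85302e0ac2585a01c124140500c206c1a01c0640981d83f08a0b80980b0a80003182108e030040140300802903503a0b41c81106e0281d058,
  0x2c10c098450b8048080140060f01304809202c2501a082184030040a00702680704a03c010400a40b406822068064188380181781b0180ae07c2382e0a81580f00108412c140000660141b8440560901602a0a60f4118270ba06c2a83b09e0a42c83006a0242d02f08c0e42603f0c61882c0080c00281080e03a17c0b83209c0e80885104016c1f015,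
  0x241040f05d01604c0f8330320e4260040c20840a0360040b4238310b80240782e0a61502001600009c2c04a0b21881201b0380282582802018c1780700c0a8218300301801a00e044168268380100680e84f04a0f01002b0880a4280420460041a84502a0c81f05b0580442b0050ae0fc0b85e090124068460740982a80c0a41381e8030be0dc2883b,
  0x880401f02906c074308160020280701c05a14c280200c00880c0210780ac2904009a0e80403005411c178230220f42b0060c604c0781e00a0301c83309c0b0230490c41642f8580b405c0c83404a098288020840b82185403e16c2e8480b80101902403601c2284106a0fc0d05e0aa0540683b0940001b82707015c1403101213c0584c09604801814,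
  0x8a0980c04f0401782485801e16c180540c60f80b83c0100b0018010aa03426025082088050020901680d8040ae0901382d068180098120c407c2b01c0120c82f805066118170510a40180d02806c0400a81d01c0301e83809a0841503b05e08c1d03f00e0440005907210c2e04b03c0a4238530560dc220350c20640a04a02c138210310161002e850,
  0x40f02983f08c04c1885c08a12c0780d02e010048280200e01a85b0141680303e0160482402a09e08c0d84a08e0800d02d076158220140721640c01f01c01c2486006c0b8108080000bc308240c40142703d02c10c2605f0a80980c8290bc0ac08827064030268250660e82e8580380b0180510a40040e8150aa15c3181e04400c2003408210828037,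
  0xc40980506000c0a01003b0460cc0685f00a0c00380c05c0580f80101c0d4260420ac12c278210bc0941102d08e0740401a0080f4058550821640f03702a0e41e0530240c81c0570a41341d06104e0bc098030b61700c0360a01681f84309c1181a01b0281201882401e0702a02a08a0a4160400881600b8190220f8158630a2000010100ba12804849,
  0x501283102205a09c1701105e1840602104c1340382c07c0f01a8040680dc228050841600e04606c1400485f0860ec0185b02602c0e8300900cc0d04e09e06c1d05902e1581f831024170248150a6040068200ba11c2f0240801440003d05618c00829082064150520c00282600f0300081280e0a8018220380aa0c80b02303e0e40a04b0ae0200f05a,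
  0x480382103a0521701f83506c030228590440700b01000c0441901204e1780d03e0c006c0580200612c2d805072150198280981202704902e0742982f0320dc2b84a01e1541c00401207c23830076158290260020f03105a0460f4050150820ac1084304a18c2c05d05a0200984d0621442782c08801c2001401a118100500680a81706103c0602f800,
  0x2c084178070440701704b00a0080c0410781701d81109c09c060610680f42803703e1742281e04003c2601902a0fc2202901c0d81c860002100000470741501c05b03a0a01285207c0101181b0b20202c00a0ac0b02f8100c41781803305a05c2184a0a60d42484d04813c2d0260a20c41585500c1203180b08c0341901402615c048120060682102a,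
  0xc20c82b85d0a00542c82a0440802e0340240bc0c05e05c1801480508e0302d0160961581b80a05a1240480703e10c2904e0780080185b0a61341d04a0b00cc31017016044180480aa0740f00f0260681c0440100a01583e09e1300a03108c09c1f84504a1501c81c07a0002085f0c60900200e06c0981082301a0042880606a1001601008406c0c83b,
  0x741041583706c0102100b07a0cc0903200c0042686203e0b4048050b60302b8280a61102d06108e1302c0230900e42801b07e0081702605813c2f00003203c0502f0be0c41c01a0aa04c2705103000c2282a0a812c2e83003a0d01004306a1180b82507c1000682101009c248560c60382901e02a1802c85c0220f00a0070940880b01c0200901d829,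
  0xa09c2c83300c1002f05008e07c2700306a1682e04209213409043062000250530380d83080a07a080020170980f01503406e1880c02b04c0401901d0a4024040380021202a00b00e0503000f0260081d81604a0a02785b0c60b817823088064108570340a41c84101c0b40a81e07c0880680c07e118160240ba1440885806012c2b05f08a0e80d855,
  0x360102c0570581501a83f060168208240781440404a02c16c18803022064230480ba0941d0270aa0f82100b0381580b8130921000f05309c0f4290000960ac318070680841784d0be0802281401a0e00d02a09e1840301203e0741d8390640540600504c10c0102d06c1401401805c0dc008290c40282f0600201301104401c1642382301203c1985c,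
  0x1a0701181a08c0981504401e0e40f01700411c00052030168310330520580d83e07e13c240030641641705703a0200583d04a0b41801004414c0a0500780841a84c0a2018160190820bc318280920ec1d0560701542685f0a80541000c06c16c08827024028300050561742706101c01c2e05e04807c020130841002c0450960c42503401210c00837,
  0x3a1501281002e1600482c01a0041e04308c078298030180640983200407c020470281042a8270c60141701a094188268400a20602e81c07616c1681208803c150070be1700703406e0281200004408c1804504c1582404900c0c40b04c0b21841b04f0500e80583805606c2105007c0fc2b8350400cc17839052084088600a40201e85e0b41380a84b,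
  0x140d8138250220bc2e84d06e158288490200ec110260080e81880d02a1882f0430800502081801c16c2f8130601540902b08e1181f83903a0f03185a02c0d0140570b003c3001b02e0d42103d05c018258290660240404e0581141185209e00c060500380682205c09014c0280b03e184168240540842600100e080190000041500c83e0940781c059,
  0x180880304c00a020070350000980881b07e1200b0540160bc1405b0b01681683e06008c2100209c0ac128040200e4230570a605c2684b0381701d0450321781904a0a01541082906c01c2b0180660b80a02400204c308370b213c318520821240f0310240d01006201a0741500308803c2002c08617c1e8150340ec138510140f02385d0701800f809,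
  0xba168240530321602a00a0b803c0881e02c07c0400e05411c2880c07e0b03183507a1842803809c1881b81a0b61641e03900a00c0905f04e05c0c0060981041d80408406c1783e0880082903a028154158210020981b056012128300250161241702209a0d01003305a01c2f00004610c200310260c81801509e12c230280520701201003a03422857,
  0x5409c048560ae06c2d83107408c250380060d8300490400c00f0130a20600e8010641542e82603e1502402c0960540b0210b80cc2c8620240702084008e0f40602f052148298440340141f8430560dc0805006a1602d04f04801822800098094068460441080b83c0101781d80e0c20d00880a09a0f80584e05c050038040040e40785f0320a03182d,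
  0xac0cc1000c01c00c14049062028000440c21180383c0940441800d0521040081c0b2024210210720a82a0130900d41f0470bc1442703a07e13c0585c06407417808032054300230c61600f0260a6068030050080500803405817c2d85207a1741285002c0e01681806e0b80781f02e15c268240361682282b04409c2183b0041302a84006c18825812,
  0xa40180f82c0980a82a82907c01c0104e05e078310460221642d0580c60380e0090880e01f80104e0cc2e80a040104020030be0202385c0a20740a84801a05c1102d0c01002b80507a0b82f00f032094250120480e4158310461242a04f096140080260b60c81a03b08a06c1b80c0500680b04204202c268180ac0c01a8530280d83080002610c1e03a,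
  0x700b8290170b816c1381e04c0002580f0200102604a062124220450221842e82f01c0581983a0800701083f0300682a82a05614c1e842052164030580021501901202a0d83002304a1201a04e0100642b01f00a140180130820dc0d84304411c1a8280bc0082f84f0ae0741600a0160ec0383e0281882d02007800c048390181440682d0c60902304d,
  0x240002c03d084004290300560b83106309a1280c0040b21242281f09e0a41d8110960e02b83601201c0f04c07e0840d8230160d00181a03a0580c827026038188320741840502a0380d42b00f0880a01683709c0902e05b010104280220781542e85107217c0102f00a0543002c04a0f813014090040298470bc05c0300c0861002d00d06608023054,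
  0x1a16c0b01a08c174090550661343105904604c210440c61682f01d00a17c1e04009c0f41b8020540bc0585100c11c2905303c13c1f0080360d00f84b06c03805035000160110040760c4260070121840c8380640b80e00304c0840802705810c0b8410ac0602503004a1242280c0500542402b0ae170300200480a40785007e0441d02d0a80e400814,
  0x880a00a8040ba004040340b60b02801a0a21281e80a00c04c2400201a0141003f056044230420b20941083501816827055076064178180ae07c1f02e07211c218520c60dc1d01207013c078610920382002208a1700a03101612c018230a8158000260be0a80381d0a60702605e0780a40b82703c10418036048024268580201800d82d0640cc31016,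
  0x261200b02503a03c0e03e01609c1b02306a00c2e04703e0dc2d0060621882682d0800542f01e02e1301d8340600101505f0140682a8180361440100109209822859050148120440660e4000610740bc110530a010c1e83c01c15c2b00d0821501002c0521800c84209c0e03184a00e16c090210121180401407e0141904b0180ac0884f05c0402e858,
  0x9e0c42d03402009c280390aa1040e8110500b02685f07406c2b8130c01700185305418c1783202a08c0403f0381242884a0ba0340280b02c0640b80004811c1e80400e07c2203508c0880502b07803c0d00608a0e02b05805c0481d8480181880480e04c0f820029096108010430b2084308140bc16c180360a40600f04e0400dc1684c0a80cc00825,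
  0xb00f82c80c0300a02903b072074010120640380f055074058050040c01341181905415c2d81b02a0802e05f0a0108198370bc04c0303004e1101a84e068174200490200c42a05105805c2281400a07c1484b05c090130610c60941f8530421280081a0221302084605a0341e84309e0e02d01c05e11c0380805602c1b0620120001e00f09008801856,
  0x740c83184f04012c2481c01e0a0088450040202a82706801c2e0140940180986202c0882083101c1502101e02000c050600720e02c8560b6168148190981102c0370121781783507e0b41202b0ba0d80602c03a0141700d0161400a84d0080f80f83b09005c1083304615c2380107a1000d01204a0a8288260be184230300780600004e0a414c2181b,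
  0x6403800059078140160490860cc2a81d0441802000a02e11c1205d0240202285a0280e02104a0c6178130250980d4258110a20b40683f07400c2b82e00202c178310201501f016072134278620560100103b06003c0c85200c09c1b0070400dc0281e01208c1505309c170060180361102c01a0420702b01f09017c208130501841e8340520542305b,
  0x3618c0e8120a60e82301e0980901a05c09c0202f8260a4050188500220940502e0ba0001f05b08a150278560380e0030440201341b83901c160218190080ac258570761281180f0a20242c82709002c0a8470440c0010070340f42082c05407c060050420580b81306c0a00186201a0fc178490660d4100600521842102d078154190010bc1000c05a,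
  0x1c0c02583509e1700e82d05e0f81005209a0142883a04c0041c8060a6040000630360ec2d84605801c1481608a1300683604a178250400441740f833024154120030540c80e05a0ac03c310540040a01c0430160640d03f0100ac020110781800a0410ae078118180c20b80984706e1640a8210b0030138340120f41885f09c1242804808402822017,
  0xbc1140581302a0a00c01e0b41182c00c08e1540900e00a0d02200a01e01c1181c0c41001105b05e0080d8170060b82102a0720e0138540100e82f819098094248510c0128000530080f42901a0580cc1682103a098008410120dc1e05609610c1200d0ba0583081f0520502684e0640ec1003107c18c1a80609e1201f8110560c02c81006c1402e057,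
  0xa41202c0510840742e85300615c128230801302f81708c16c2280e02a058150060481242380701a0e01684f060180250090820e41f81e0161382801404e178008280c40f80d0330140d42203a05c1700e06309a0ec088360860c42d02600003c1a05402407c0402c07806c098020aa0800c821018040158560301841900505e0a4110370960101e859,
  0x5613c018180c01840d83c06e1501c05b04e0f40585c05a148028440be1401202509c0a8318470400a0208360ae1580505e09008c0604507c0240d03003e0e81103501a0481483f01e0bc1d80402a1340c8160640083101c0260e4108590581082e8110021442484c0aa000188580100380804a03a018038260801682585308c10c1a01402e07817033,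
  0x720142404601414c1884409e0b0250220a40740605406c08c2f05f04211c1f04b02a02c3183b05404c1801b02403c0f8240ae16019800092140128180340203102808a0340483c05e1542e84302c1682d811070180308510681302105903c0400303d02e0801b84102800c2683206a1381f82701c0a42e03a0320b80104005601c130010ac0101681c,
  0x8a058200430560dc108140c40bc2983d01a0a81d84703e1800900004e1582601b03403c010110b01341903e0441482d82607e1202800300e0b81284101417c0f03c0200e8188460660140304409c0902a059070178118360b415c10035010024058610940540700100813c168170c60600c8390600b02105d096070060490b8074098550a20a01a029,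
  0x7c0c00c81a03c0ec1982e0a80900383a0160bc0b04f07e1242f06103616c1484a0c01480c034064014238450ac0442101406c0340b8210a60880502b08c0401a80e03e018010150021101180804c1680e01d0540101e84b0ba18c0000f04a080188090b01342400306e030200380980f02b85f0a20e427050058154138430c40a01685902417020813,
  0xb406c2c0170600981402f0140442681604611c080040441240981f00015c2e85001a0042604804e0f00f029030154278620160500181a0540541d06106e00825832088024168330101381d8060320141584504a0841e8590bc03c1705b0c00902b04606c0382f8420a418c0384306a0d01c03e0720fc160200381702080c0a61442a03103a12820012,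
  0xa40a81386100416c0a01700e0c82080f0401083002d0500d81300d00c0ec0801c02c0cc2f0050aa0d41801e03413c0d8460c41442204c0b20242401d0ba12c248010b40bc0884e0b8010040030461141f8500320e8098580160e02a03c0c60f8000180520e41b8220ac10c2985f08015c170250140d01600c0420ac0702409a1280f81506211c1e812,
  0x380042f0030b8114098390880980e82a0700ec0202001c0e82d03c07e184238230b6120190270a20582b0340520d82f82d0c61482a8120a0164158420041500d82209602c1981a0c00402506206e0640b84901e10c0481f00c0a01280701407802857080138068150480302e85805e0c00c00007a0b81f0110621342602c09e14c0a03508c02020821,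
  0x461341105505c0082f0360ba1142a0140be0140204a0260ac220570b00240185901c0940e02d0680fc2b0330a61800582a03e0d41e80f0340302904700210c0d85b08c188148240820ec2780806e0e8100490981200680702c1380e84b00c0440c0610b40481e0400000c80a80a02e14018830084078138210200981403905e1441f0190c60e01605c,
  0x6e08c11015086008060290800382404a0c40ec020190020840182f0a40d42603208a05c1305a06813c298050820c4040610a81602b8270b81640483f0380780d84d0aa02c1b0440201442585f0b6074100380480183184e0ba0341684703e0ac3002a074058170120281782803d050118160250840f00783e0ac04c180390140cc0880000e1240c01a,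
  0xa60a81d8390880c81e8400740441102404c094270040be0380082f0a21201f02006008c2580304e174140460140242086209a0d427821024140080310160080b81300e0640f82908a0600a84301e0001e05e0b40d0308380b21482380c058158318140940701b8160aa1081f81b066180040540b80340d0580b61302b84905c0d81581e05a0140e806,
  0x5c004210320121181e01609c140110310260a81a02f04c1801d83600605c2204308a12c0300b02015c2902d0801781383e0980082d8230820382b03302a1602e0540b407c1c00a06a1641800f03c060090480480a0238620720b00a0250940801d03f0341343185d0be1540880701013c0280c0320dc0682b09206c0206105214c0e83d04207028800,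
  0x600241080c04600c02819086088008460661442b84c0700b82706300e1101003504c0000e0610080281583c0a61680c0100b203c1d849094150200470b60202685508a1400303d0621040b84f01a1201481f0581781f81d0a406c128360040d0210160960480702d0b00e41b8150ba02c120560c40c80981404e17c0d02f07c0e80f0600220a81405c,
  0x6a1281b81c08e0d0300480760e81900f0b21142184609e048178040a0038268210c20340600a06c0fc0a00104a0a02885f004098028420800cc0f02902e0b41803800c160138390620542d84e0481042a85a0321302f05307a174160110560682485c09600c1501805c0000d81d04004c0b0080880f82a00b0ac088038230200f00481f0c61882b852,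
  0x1c138018100a20880683c06e1203082e07c0102083605a0c82384503c174198550b21502901d0b816c230200320940d030054048300400621341782c0380e81c01702c0542b85f0980281d8140460441481b0c607c1200200c0041084f0bc0602580904c030098070ac1281385801014c2103400a124078390880d42802b01610c0003d0b40fc14062,
  0x901441285906e0780203a0a01802f8310200d01905807e10c040060440140b04e0780b41b05608e09c1c05b0ba030120030140500b8330ae1541401103e14c0a81a03201c0581b0600a82684008c17029018076168310420581142782b04c1841e8090a80700704a0880e42482900212c0102002403c0680005e0d43185e05c0741183e09808420813,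
  0x820201702407e10c2280c0be0740183808e1281a860050058290490660000f00600409c0886305204c1d8170980f80585003613c0c0220800c41b8360021780f82f0b21581a03c028188020570880342883200a0981805b0120480701c0961181e8150a80ac1501909c0b03082d0720842e81a0900942d0550461080782000e1602983a01417026810,
  0xbe1100604205c0dc1a00502c0c00d82a032074240100b808c030390a80b42c8330400881783f0921440f82706c1182085a094050258040160ac2b00209e0440b83208e16c218620c6094070080521741880900e0840784c01a0703085803c1802f04e06a0542802c07c0482a8520780f4130570480680183a0500001c0450a60600083b09a02820013,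
  0x100042f8120b01882f05205004c1e04301c03c020110180602a04708807c1b04d0460401301e05800c1700d09405c1900a06a0fc2b81b076008048410b609c1284905402c030340740bc300380441300e81c0840800a82b08c0e40b01409e000298210341381f06100e1142a8480b80641485a07a0902004b0ba164028330c60c02b02d0a20dc28031,
  0x920881400d0600ac288380260240d85809c0841e80507e15c2e03b04c1141d0330a4168220140c40c42a02e02000c1c83c05e1641a8550680540584c00c01c0c8370221842685303c1200502c0100803000104a0a82d8230180c8280240860600b04204e0380905f0941180e80007c1002e81a0080b40784f02e07c20802052158258360bc07023863,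
  0x5c0401484404a0782e84b0480582885201e1241105b0ac128168030620e8230430400b02001c01c0c00f81904c17c0900609802c0082a09a0bc1f04e008184238570680d82c85c0b40cc2280a07a08c0e8530700e4098170900681583b09e1501b8180a01080880202809c0285e0aa1600a80c0120841400707e10431860036034040320c40f01a800,
  0x2a0c80282d0041881981206e00c2f00904e0a80380d0841182385c022148248560140ec0e0140b00a4118400780f42785102003c2d02f0a8128220220100ac160610600980d8600480642403e05c084030200a017c0b0000021341a0410340c41a80b06c15c0f01703a0a02185d08a07c1283a0300381f83801814c1c81309c154260040961642d863,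
  0x1c0281484904a000250260061140b01c06e100150180ae05c220420860341a8460c403c2703a0600cc0f839048104040520b01742f0280180b01f02d02a1640a04d0ac0780103b02214c038600b811c1f82e05e09c2d832036150028200620641c0040a012c0081d0980681e02105608c098340a2168240090c20d82a8120440180800b07a18c2785f,
  0xba0bc200200000740c02b01c0d02c85305413c0a8290421200882c06e08c138410200a01e85600c10c190130a81101802604a0f01985f00802c0f04a0bc00c1b0240340e80b8460440702c04700e1802800201a0280903f0b415c0401f09a0241f0450920042585c0a20e00b03101e0d43085500a0503101908416c3181b0761301703909c03016852,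
  0x3c0e00780e0620581081809e0b0190300bc0741f0600020802903900c1281e8070be1740004d0800d43181904a1240f81b028030010220200dc2a82e0a000c0b82f0661040403c0500982b8360a2110120090c21501681c08e0a40682a02a1200505809808c1584e0160441d834026108218590961882e03a0b6168020270341180903f0ac11402853,
  0x4c0542f8600080241184804e0440005909a05c1d0530b816c2202808404c1a83f06c08809037038124308100ba0b02b00c00e0382505701a0201e04f04a1600c85506200c1701808e188180390860bc1f0010641680784503607c288140821301c02b0bc1180e806034080258520140f41082906818c1202d09c0ec150540800081980b0a00780b005,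
  0x5e16c1984404a0901c0450460741f03205c1502600902014c2585e028034278000100e8090300a00dc0d81503c118008170c00a42384d0821482f82a0b20081a03109209c218510900700201f06c0ec0b00e0ba0302e00b07a0641106207e084030350940682b80700a00c05063040158210390c2100168580261382d03c02203c1582c03015413028,
  0x6a1682585305e06c2a0380180582b8490900c40405f008118140090681880700d01e18c1e0150440981180b0aa0441503e05c1801685603e1301982b0ba09c0503a08201c2883008e0ec0d0500421100c05804a0482c86109c0dc1901d04000c0985c09a1282004f0580501b04507e040290420860781480200c0f42d8240380e40c80500005c0085e,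
  0xac0340501d0a40582f80b0720c83185c08a0641203305a0780d81707c0981b0140580f40485a0780842c0460a20e8220250bc0601882205e1501f81209a044018430600a4030100261801380f0380ac2a84c09e0d0140020461742581a0c2164208350c41202382a01c0542505009c0202b81f0000e01d85b00e01410040002030020420a61241b82e,
  0xaa16c1e80e0920a8278080880982585c0481881604506a0102e80909a0b81882303200c1e05008e0bc008570a2178060170a60681103703006c148540240cc0683e0140942302d0c2000240270801302702004217c0583007210c1903401e0e0210160221481f81c0c61601b02800e1801d83a0b407c0a8020561642b01000c0780a04a00a04c2081d,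
  0x520c80903705010c1684a08e0540080001c1681084f092040258050b005c1781901003c1585f07a0c0280240300983180707e0302282201404c1a0160a40b0220570c209c310400900e01e05307c0941d03b0a80242e04d0280800881d0720340f02a0aa02c2304c0b20c4198420b61381b00203e0702881b0bc0180205d0340d4208600ac08c0182e,
  0x841440281300e0b02502405e1200b0590c4160090550980282483f05409c00022034184228150660200085b0b80e4058320c613c0b8230c00700c80f0bc15c1683a0800841e0300ba0802a046030034060280ac044188530b407c290340860ec170090060ac0100606a0501284e0be0f42582909a0780d83806e11c0e84101c0982203e0081401b010,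
  0x260882d81b07e02c1c0610c00042e00006400c0201f0460a40a05104a1501805e06e11c0705000a0e82100a0a60a02c83d0ba18c0885a0a41141a85501805c0384d09c0200a8400ac13c2181c0920d81686206209025858076118108340780a8170180821302b84801217c1582c0320481000d05e0180f01d0940080803e01e09c0d01607209819844,
  0x4614c1483503e0202b85a0040641804c07603c1083c0a411c0282801a0f40f015056128098200ac188130540020cc2484d00005c1f84b0a20f80b0400c61780d02d0740181504e03a1742a827062110240320160dc2f83402213c0502c0b60d80602e0b800c1105900810c2804207201c0481008c0900d8600c20382283804a1600e01405e04820818,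
  0x4605c0b05108400c068060b80b40002907003c2304c0b216c0803e0ae01c2805309e1482f8350ba0e41d84104c1842b03603e0dc250600380d01e0140621540d02f0880c80602803a1602f02a0040280581209a0540f04e01c0ac0202e04a1200484b0c60900403f0740f4098300c41141382100a0880c82c06604421801030124100400361682a047,
  0x581042206104e10c2e06206c11c200210040301a80000c034150500a20d00504205c1300e8300be12c2f05901c04c0083f07c1800f0240a804419809050174020560b01141c0150460dc168320621542d00b00e118080390300141003c0a40ac2681903414c2403b09e0bc1d03d03e1380e01203618c2502504c15c0a049006088078170520202d816,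
  0x5c1800a84400e0d82503a0481141284f0141301500609a00c2f8380261080202909c0142e0560a60cc2082b0ba1241b8200280f82000c01a0200b8110000842a81a04418c010520bc1842182c01c08c1806204c1601e05907a0c42883500203c1403b04e0402d80b05a0782a01802406c0b03f012074238190681182804b05e0c81c81c09015c2d01f,
  0xa002c2e8460c014c1904506203c080010380301285806000c1f81100e0503103705c178198200460a02884e09e1000302b01416c0984404c1482e03b0581082580e03a0e02a86305a11c1a84a01a0481102f0541041e0430be0d82b8020081301383402c0680f81909a05c108590721500f03e0c2014000490100e82d01802a0241201b07a0a42b048,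
  0x4416c1a80e05c084048320501501e02b0be0482b8630aa1440804707c1241b8300a00300f807068178010530220f40183f01e0642e0430000602904e0380042303304e13c1884a0ac08c3003800a0100402a04a06c258140880e82e8200901342d04009802c2101d0520e4098410340540b83603c1140300a05e098308590580b41203b0b00340b062,
  0x120103085407a0d0140500320843001f0721200701b0ac0200802f01e1183181609e0b01284e0a40ac0381304605c150490c40540683c0061101381d082060050050840442a832016018268470401642185107e1681a83306c0001d0530181741105706e0a42f81405c1000f01a0240981c03e0041702284b0621302f03b0b60041681c09416012030,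
  0x14190290801780185503e134248540760f81e02e0681682602108805413847070050318620841402300604802c1802b0460c40803907a0b02780a0120d40b02d01a0743002f07e0cc2b84a0220080202209616c0985f04a1140e02a06e080070280021440381a0ac1842c048082048060530ba0d8270430301480d81903c1701d0170b20201300f,
  0x281180000504c004038180780741700408e18c2981909a05c3083f0140e8280090aa0b02c0520561441404f046020128160700a4218400761101a84b042120078540c01701f05f004068190220180482604e0ae0d8138100ba0cc0f81e0b21781883705e0702b04906006c250060400f40181302202c068410721142d0620540d00a82d01c16c12042,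
  0x700c81a05f0860743081c05c0242e04f0441301e0160760900c8270520dc0102d0060300885a0741642281a0900500286007e05c2a015054000298410100980903004011c2801008c1880385e0a40100984a0b01580683300c0bc0503e06c1241085709c0382a80f05618c1181b0620e40c04b04a0040f0440841342000b03e1441e8350ba0b01405b,
  0x961041e02e070124158000760582b02008813c250500040fc2005e07a0101985b0020281c828032118028550441140983e09c1701904706e10c120530201842e81203c17c0880e05a1080681f00e08c180250981882c0570680d81380c0900e80a8180280742686305e0a81080901605c2c8060380b0018290101501a8600a40681301b0b40c42880f,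
  0x681640505f0aa1002b8170b00fc1304b0041082801401018c0f8520661681e81009a14c1285e0740581505408e0702204103c18805801034124000190240441b06002a0f81102900c0c80c02d09c11818861050080108370480d40782e0120bc260270ba0e01c85101c074018480b61701804508608c1d83c0261580204f00e0ac0282c0940300d80d,
  0x260900881709c1001306208c13c020500a61680a02202410c1785b000108240380720f40302a0bc02c1d02c0920d01b80f0ac0ec1a8330460c00081b05c0f02a81e0b818c1584d01412c16802010024070410321602882004e11c108360881642601d00a0401480c00607c188180a40540b03f01a0f82a04a0ba180228570380c80385f04a1841401a,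
  0x2c1302c00d06011c1285f0560440305a0ac1800704b08009c2505e06e0542a021054114020480c40501603302002c1a04e0aa0f00103f07a0a01a8630120b40d84f0321042985b01012417005040090050510ae01c0b82303c1401100c0a4134188460020701781a04c184078420ba0481c03e03a10c0f85c030110000290060d81d0590260e41d832,
  0x280cc0805d04c154288280440801802b05e1043186201e0b4090150960d00c03c038010060290621382e00208a0b8008070800e82803704e05c2483b07e0241a82a0c2108190480220b01e8560b204c2d0440001182d8520320f81c81f09a0d8238600340340d8580a617c0504f01c1782183803c1282602400c0841281d04615c2a01600a02c04003,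
  0x8a1342c8020720d82504c0121800900c07a05c1582205c09c080460880b41180b04c15c1c00e0281780382a0a012c1082f0a60c82e0300c40740e04e080078040560c21602a02800806c1884800a0cc2380f0000dc2f80a0521241f82003e0682d05203210c2082c07c1540983b0b613c1e00304818c030340ba044288160300e80084202a0341a825,
  0x2c0700784d0440a81386209e1781800a0200382e0450a40101f82806e0782a04900a174168430781580106006202c2c8120760a42d8080281000a81b0c200c048350940e80d0580480b8038480a20642705305e0c82f820056130130330220041e8060820e41a02308c07c160180880002585503a11c3180c07c0e02d01704a15c068360a004c21021,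
  0x1e0f02400705609c170370660780c02108a0081a0170860141282007e1801d01b0a01002a03d0b21600602206408c0081d0c60341785c02c1542581008c1040201f0720702f85201002c1681302a00c220260ac1742d0360140d41202807615c1c03e094064048120341082604f0280b02f03108e0a41804e0b601830849000134150110a603831051,
  0xa4090098060b812c1a84a06c0c0208380740302b055056058010030101002c0220a01840382a0b21200e845028108070490981441981802e07c118120c61741c83703c0001781501409c2201b03417c2705e0200ec05853068044130620860f80782500a0a01603f09e16c238210620a41903c0a8010048600b41182685701a0b40081c0400641e82e,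
  0xa14001853078084110190b00602e8630600ac2b8310381340f04504e0ec2581f01a1781c82c000044208120880bc2786107e1481d0060340e00a86204c1302403504616c148590180c80805f0aa1380980908e0a00204a08c0d82d01b0ac1081a00103a03c2005101c1502180705c0f80501700402c2482406e0a8128200c00200b02d0280cc2e03d,
  0x300a82b00b0960941683a03e0500081c08e0c81b80d076078100350660bc0103e0900302182309e1002d82e0c6160028080ae018110520981542985f0201781f84201e150280600000e02e03d00805418027012124140510560f02c86106c0d02281209c0902301902e00c2e81b0720b03101109a01c07044026074050410340a41304a0b40c40b021,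
  0xc012c1801a028074208620920002903705c0801185f0080180d85a06a04c058210580902201104c0082c81c0ac00c0504008e0e41b0160b807c2601907415c038460560cc0a81804e14c2a8420a80241e0610240d0268630b00882f05d05a0f40402a070120270250a003c0b80101a0a42504305e0c42885b0500400603e08a13c1f81e0760141900e,
  0xba0fc0a0340220040703004c01c128180200682780d0ae09c288060980d40182c03a0ac1b04e0380cc1c80505c110058620000280106005e124250230760902d05e03210c200320260f80b05201e114298460781701080c03c024110420b005c2d8150a81842083705a1200201f0ac0f4238590620483185f01012c280200700a41403a0361342a82a,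
  0x1a0e824038018050258300140a81381f0a0090040020b00542884408014c070070a81482d0310340b01781e0b811c1083607618c2d8410440583005901e0cc248350c206c2784d0400b8118170980941b8040500740c0050320b4080460ac02c018570860a4048340260f00302b08a0982a8620020c80905e0001741f84a0be0442703907c0f42101c,
  0x4c0803084f05e174230550860840b00506a0001884206e1241a00b0220941384a038160050620760f81e82d01c05c1806309c0542801a0661300404108016c1400908803c2f80600e04c2d00c07e0b00c84d0960b80183906c158238520040902a05709008c0685c0a21782c8140a607c1c02b0740f02280405206c0e812030180190220020780802a,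
  0xa1541c80b018150018590000a80385201a0fc2b82003018c030270a20442681c0b61201804302a0b8078370140f01982c0040680a02f07c1400403b070074238220480d40c8620b40d82602609e0ac2501f0080402203105a04c0084e0821582581e02c1141d0420460242001b0520d02485c0ba0f42f01701c0843086006414c2302804a17c09058,
  0x3404c0883d0180880f83c038064190430620482e8400000b01d84604014c0102508a12c168630721201f05609c1602a8030b40582d82700e0140f0300840382f05f01e110148210660b81a0600a2024080150a406c1185005613013001094090068610501880a0350820202b84908e0bc2e03803a0e80502a0a81641f8170300102683606e13c0300b,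
  0xb81601f03307008c2604100e0c8290440401840f8540940682c84503a12c1c8560520a00b81504a0f00081003c09c0603f0a60100480f09e050300220160dc0683407411c000180bc1180186207a0b410857036018090190220c42484001c098158480860d81785a00a134170160aa0c0040350381401602a0a2174010240be1082700a0c60ec0985b,
  0xc607824040040188070120560d82880707003c220430940881085c00807c0983d0461802f0450a80082082a0641582e83a0b20b41482f09a0600d8460480dc0d03507e0ec0483e066018028260060501805a05815c0b04e0000941e0170500b82484206213c1a00a0aa1400885f08e1482c01c0160200c81001814c258610b60742600d02a09c00839,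
  0x6616c108050c61741e0310241882685f0161141684f08c0fc2f02b000164068500720501301c05e0a81901100c11c2080f090154148130300800f80a0961241a83604a170040040ae110250280480780c8010181501c01001c00c0b0070c20e82b01b02e1481d8270340dc11023060180160400980f80a83d0861602d01d0a61080485109c0b801034,
  0x2c0a82984f044120078440020e81202f0800c02e03206a0d80c0140561040882d0b20101c03d0861582380809a0f80e01e0c00480d80c01a09c2f8500a20842d01f0661482d81508c08031805092038048100ba05c0103c00e0c42103f0c41301703b0ae094270540321781a01d0460dc0d026094160000060aa1841603908a0a40180a09604c05828,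
  0xa41180402b0a80b82000701e11c210510340602d00907c164310580761780f8390880900e02806c0dc2805f01a170148530040fc0204c09c080248270260e8308100181540a01207a0640185b09a1581a80b094018160570900042086006418c1782602212c0b85d04a0141102102a0b41880a09e06c1501e0780c01c00e02c08c1983403a10c22800,
  0xe1782583f03804c3180907006c2c81d0320282b05d0340c421047042168248460a4094070570820ec060330520801806002a0d82004a086090160020440b42401f00616c1783909e0d01e02b0a00b80c00007a1340781108a0043080502e130090620b01442a81e0500e80a0270160342205307c08c270260100d42a05f00c1700800402c0dc1902a,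
  0x280cc070310821181a82a04209c1700307c14c0885a0521340400905e1642582b0a81483101507e088140020980180c01a02605c0204f0761382f8360b6014000100701742b0070800342b8490180781a01c094140210550400040f83008a0642403703611023851024028190610b80f4218600c61600b0240720e82f00b04a08c1602d01e0f01301d,
  0x1a0e01903d0480cc0e04809c1400001601e17812823060110208390c61142c85302e0141785f0921581b05707e0ec2e80a0840b41a81e0540a40105b05c0842783a08e1480383e08c1340c80b00c0ac2002c01200c2d05403e0c4310610b80980a00802a180020180260dc0885102406c2580c0401540d0270201281401d07810c1a04c04403800858,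
  0x640540701204a0501601105017c1e05302e078200080a80e81a80504c0dc2b83b06203c158290941481002408e1540185d00e0182b03905a0cc3180a0960582485a03e1082781d0420b8060000440603085003810c1180d0980641b0480b613417846016160150090c01880985107c0081e84e0201102083f0080042f01b0680c01383808a1700d059,
  0x6a1301c80508a0f00b82d018058208610a60b00e84d0a00901401b0120d0300150260103104b07e0f80500801c10c0e0330620ec078320900801102109e0e82c05108e0782f05505e0c01b01a0460042502b0ba1502482a0b4094220060b60340805c024064138140220dc3185704c0e00f80b05c0f4000560840a4270180b200c2305200e17c01040,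
  0x1a13c1c85c0000e01501b07400c3103e04c0802b8040be1240402d0340a02c0550a808c198560800182504601e0781800b0020f01e842024060220340440c81885b0560d4050070bc1301b00903e0400c81c0a605c170020b2138238130580442e8510901140702f04a0140a8270c012c268410761680a0240181402903703a0fc1484302c08430863,
  0x320281382d09a1181403406e0940f05a0301580b8590861402a04b02413c2501d0bc010228420660e8300380160402480608e0bc1f80202807c190150c61300d80902c0d82f85207214c2a8050b60040684107815c0602b0b80003085d0260f82882e0480c0038440060981e82101c08c1d81c0900680884e0581002c0290440c40782a04002031035,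
  0x981781b83a0200801301804a0c0000630940e01880201e0542904300e0883105d014140308320460a02384e0ac0bc200580661681e81d0a606c2481308c0142583503e0781683c0aa1140b81c07e048240090221041a0190760ac2d83608802c278010b80500202a01c134160030ae1801485905c1082a02404e0841c85107c0180b00d0be0300401a,
  0xb60e80d8070c0164140180c40340b85005e0181d863088080078050a81741201f0340a81b85204e1781c01e0100b42280107e0ac1882c0320582305804202c2583c09813c148250ac11c090400140542081c064088070140660d42404209a074118610060402f8490080b8180530001702a8570220d01c85a0a20081300c06c0240984307c1382503d,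
  0x700000605a02a1341801f05c0b42b83a00e0ac1404f07602c0a00504e0bc1b8350c01780b8340b60840b03c0720942a05d07e090318040440f41983201e0b02500e08404c188260861041185f0aa0f82801008e1842701d0a4164050460ac024010200800d8240030320a42881a0b00182485c0980442981b0960780e00101a0a83101801004822045,
  0x7e130168070821842505c0500780b02302e0a42d81801e164098260860681a03b0b41342883507c0881c831066150030520000502e8500181200c8400220dc2f05708a1581e01d05c0340806008409c058150380241581b0400943183203e0c02700500612c0084607a14c2f8620540bc0903a0700841b0470b00b0040440481542480e01401027802,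
  0x9c16c1a8630860500600805e118280370c4098088400a805c2584403e090118490520882e8580b20d0140530ac0140505a0760e02284109a0e80901b0561700380e0600701702d08413c2403e02003c010330420241b0000021480c85f0080942502a0a20c41601d0260f01c80b02c0780a83d09811c0305e0640601f8030ae184068600aa09c1001a,
  0x2a0142301307a1281985f01a080200390a21040104b04e138238030861103003b06a0202c061058088088070b4178280060181242982a0c41482a02e0aa13c1f0290b60d80b00e05e07c2b800028174188090500982601c0ac134180180361081b81d07e0b411832020010128340900f00f03a0481640900b0700642e04502e0043182b01403c1081a,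
  0x500201581f0701881f01d01600c2f83f04a0480785209e1300f04a05e10c2484e0440281c8150ae1181b0070b00001203c0a81102c8550c2068030530300980e0020600d00883a07a0640b06308e05c2005c0400cc008420ac0b00700c0a009c258290281141082e05a08c0484d0a20a82d01306a014068100c016c2e8410900101b81b0640c41d85e,
  0xb21441000100e1002985a0c0178230420501402a05f0a40f82382d0001881e02f07e09c0581c09e1582285c01a0240882e0ba0cc0f82c0540200b8130ae12008024076064110120c60542d8230680c01884a00a03c108610740300f00409a058130290141380e8380560680a01808812c0d8390861240704100c0d81e8580040c82a80306a0dc26025,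
  0x1c004270070820cc0185e04c0002c01b0a40582601e0620f82204208a1342e82f048050090170380fc078400a61440f80d06808c280110561540105403a12c2e05b04a09c0981800a1201481001013c2185902a1681b822064030108280c00b01a85609402c0c85f08e0b82b82000c18c1d0390080ec1e8090540d8050490600b41e01a0c40e030846,
  0xc615c270150401741d01907a0a02b04500c1102f81a0c20e00085e04a0c4148460941241702c00e038218550600fc0d8540661802604206e1200001604e0c8310580b2100088350540b41c8520480840981d0040282e05a0820d80a00c0060ac068100300ec1304b0a211c0400b03c13c0481703814c0283c01e0f82d8120a007c2682206801017823,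
  0x9207c19819034070308250041441785a0120001e8600a4174280480621040501507e09c1b80f0a80982285c09a154110320400481681106a0182583a0501782982b0481380383e08e0741484607205c318010701642f82a02c0f0210030160140602e0ac10c118130080b01b01e01a0d00a0300941002b84f0360203105b0981600703b02011010818,
  0x40a0310721180601206e0941405a03a0a82985f08e1282401e02c164198540b809c1104201e0380f80d06010c0383a07c0c8208020761140b85109c09031058046024088290800bc0285509a1301c01b0bc0ac258570c20541e05d0340400c81c0140b8318130ac084018260580d00200b0300202784900c16c1a8520c00b42803d0401101f836,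
  0x841541503106c03c0e0080940042c04708816c318030781300381e048088028100ac04c0a0540600b4000340140481783a0920f81704e08605c0c0500a21142400b0460802e05306e13c2585f07e1740d00c03609c0e80608c0ec1c0400b407c190350c21802b80e0720841284d0080a02080d02c054310520521642f0190580ac1e80204c0cc04811,
  0xc212c1a03f078058190260a80dc038300bc0642a8330ae11c0d02e0c0088150530ba0441585200a00c0f81804e0d80502d0460ec0780e0400b01f04400406c0b84c0b81042305608a074288280c40a4210630000481a84d0260e40683d09c164048310701200f0150160e8120500200302001405e0040305f086168278250380200204a0b01242d821,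
  0xb40ac2f8350a40c42101b0ae1401484c0a80c02005e0661581c82806e0781682202813c1d8180040943184d03a16c258600aa0301d0460541881f85302a010288170400c82e85905c0281c00300202c3085c0820640383c00c08c0d04406c07c1e80808a1382c0240380b00484709203c0681000a09c2501307c000088120900981a02105e03821816]

/-- codes of the elements -/
def cod3 : ℕ := 0x1920bd1cb1c26426ae0a21c03b29c001
/-- base points -/
def bp3 : ℕ := 0
/-- base points -/
def bq3 : ℕ := 1

/-- words of elements of order 7 -/
def yws : List (List ℕ) := [[],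
  [0, 3, 3, 4, 3, 3, 4, 3, 0, 2, 4, 2, 0, 4, 2, 2, 0, 4, 2, 1, 3, 4, 3, 1, 2, 4, 2, 2, 4, 2, 2, 1],
  [4, 2, 4, 3, 3, 0, 3, 4, 0, 2, 2, 0, 2, 4, 0, 4, 2, 2, 0, 4, 2, 1, 4, 3, 1, 3, 3, 1, 4, 2, 1, 2, 2, 4, 3, 4],
  [0, 3, 0, 3, 0, 3, 4, 3, 4, 0, 3, 3, 0, 2, 4, 2, 2, 0, 4, 2, 3, 1, 2, 2, 1, 4, 2, 4, 2, 1, 2, 1, 2, 1],
  [0, 3, 0, 3, 4, 0, 3, 4, 3, 4, 3, 4, 3, 4, 2, 2, 0, 4, 2, 2, 4, 2, 4, 2, 4, 2, 1, 4, 2, 1, 2, 1],
  [4, 2, 0, 3, 4, 3, 4, 3, 0, 2, 2, 0, 4, 2, 2, 0, 4, 2, 1, 3, 3, 1, 2, 4, 2, 4, 2, 1, 3, 4],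
  [0, 2, 4, 0, 2, 0, 2, 2, 4, 3, 4, 3, 0, 2, 4, 2, 2, 0, 4, 2, 3, 1, 2, 4, 2, 4, 3, 3, 1, 3, 1, 4, 3, 1],
  [4, 2, 0, 3, 0, 3, 0, 3, 0, 2, 2, 0, 4, 2, 2, 0, 4, 2, 1, 3, 3, 1, 2, 1, 2, 1, 2, 1, 3, 4],
  [4, 2, 4, 0, 2, 0, 2, 2, 4, 3, 3, 0, 3, 4, 2, 2, 0, 4, 2, 2, 1, 2, 2, 4, 3, 3, 1, 3, 1, 4, 3, 4]]

/-- an element of order 11 normalised by an element of order 5 -/
def w11 : List ℕ := [3, 4, 2, 4, 1, 2, 1, 1, 1, 3, 3, 3, 0, 2, 2, 1, 2]


end Cfsg.Agent.H344.RR.HSD
end

-- part: H344/RR/HSFacts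
section
/-!
# Higman-Sims: the elements of prime order in the permutation group on 100 points (helper344)

* `five_spec` : `x ∈ Q` of order 5: some `x (c x c⁻¹)`, `c ∈ Q`, has order 7 or 11;
* `three_spec` : `x ∈ Q` of order 3 normalises a subgroup of order 7 and does not centralise it;
* `inv_spec` : the involutions.
-/

set_option autoImplicit false
set_option maxRecDepth 100000

namespace Cfsg.Agent.H344.RR.HSF

open Cfsg.Agent.HN.Pres Cfsg.Agent.HN.HS100 Cfsg.Agent.HN.P1408 Cfsg.Agent.HN.H0Basic Cfsg.Agent.HN.AutBound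
open Cfsg.Agent.SporadicA.PermTab Cfsg.Agent.HN.Classes Cfsg.Agent.H344.RR.HSD
open Equiv Subgroup

/-! ### groups with a normal form -/

section gen

variable {G : Type*} [Group G] [Finite G]

theorem heis {a b c : G} (ca : c * a = a * c) (cb : c * b = b * c) (hba : b * a = a * b * c) :
    ∃ S : Subgroup G, ∀ g, g ∈ S ↔ ∃ i j k : ℕ, g = a ^ i * b ^ j * c ^ k := by
  have hca : ∀ i : ℕ, c * a ^ i = a ^ i * c := fun i => ((show Commute c a from ca).pow_right i).eq
  have hcb : ∀ i : ℕ, c * b ^ i = b ^ i * c := fun i => ((show Commute c b from cb).pow_right i).eq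
  have hbi : ∀ i : ℕ, b * a ^ i = a ^ i * b * c ^ i := by
    intro i
    induction i with
    | zero => simp
    | succ i ih =>
      have h1 : c ^ i * a = a * c ^ i := ((show Commute c a from ca).pow_left i).eq
      calc b * a ^ (i + 1) = (b * a ^ i) * a := by rw [pow_succ, mul_assoc]
        _ = a ^ i * b * (c ^ i * a) := by rw [ih]; simp only [mul_assoc]
        _ = a ^ i * (b * a) * c ^ i := by rw [h1]; simp only [mul_assoc]
        _ = a ^ (i + 1) * b * c ^ (i + 1) := by rw [hba, pow_succ, pow_succ']; simp only [mul_assoc]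
  let T : Set G := {g | ∃ i j k : ℕ, g = a ^ i * b ^ j * c ^ k}
  have hA : ∀ h ∈ T, a * h ∈ T := by
    rintro _ ⟨i, j, k, rfl⟩
    exact ⟨i + 1, j, k, by rw [pow_succ']; simp only [mul_assoc]⟩
  have hB : ∀ h ∈ T, b * h ∈ T := by
    rintro _ ⟨i, j, k, rfl⟩
    refine ⟨i, j + 1, i + k, ?_⟩
    have h2 : c ^ i * b ^ j = b ^ j * c ^ i := ((show Commute c b from cb).pow_pow i j).eq
    calc b * (a ^ i * b ^ j * c ^ k) = (b * a ^ i) * b ^ j * c ^ k := by simp only [mul_assoc]
      _ = a ^ i * b * (c ^ i * b ^ j) * c ^ k := by rw [hbi]; simp only [mul_assoc]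
      _ = a ^ i * b ^ (j + 1) * c ^ (i + k) := by rw [h2, pow_succ', pow_add]; simp only [mul_assoc]
  have hC : ∀ h ∈ T, c * h ∈ T := by
    rintro _ ⟨i, j, k, rfl⟩
    refine ⟨i, j, k + 1, ?_⟩
    calc c * (a ^ i * b ^ j * c ^ k) = (c * a ^ i) * b ^ j * c ^ k := by simp only [mul_assoc]
      _ = a ^ i * (c * b ^ j) * c ^ k := by rw [hca]; simp only [mul_assoc]
      _ = a ^ i * b ^ j * c ^ (k + 1) := by rw [hcb, pow_succ']; simp only [mul_assoc]
  have hit : ∀ (s : G), (∀ h ∈ T, s * h ∈ T) → ∀ (n : ℕ), ∀ h ∈ T, s ^ n * h ∈ T := by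
    intro s hs n
    induction n with
    | zero => intro h hh; simpa using hh
    | succ n ih => intro h hh; rw [pow_succ', mul_assoc]; exact hs _ (ih h hh)
  have hmul : ∀ g ∈ T, ∀ h ∈ T, g * h ∈ T := by
    rintro _ ⟨i, j, k, rfl⟩ h hh
    have := hit a hA i _ (hit b hB j _ (hit c hC k h hh))
    simpa only [mul_assoc] using this
  have hone : (1 : G) ∈ T := ⟨0, 0, 0, by simp⟩
  have hpow : ∀ g ∈ T, ∀ n : ℕ, g ^ n ∈ T := by
    intro g hg n
    induction n with
    | zero => simpa using hone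
    | succ n ih => rw [pow_succ]; exact hmul _ ih _ hg
  refine ⟨⟨⟨⟨T, fun {x y} hx hy => hmul x hx y hy⟩, hone⟩, fun {x} hx => ?_⟩, fun g => Iff.rfl⟩
  have h1 : x⁻¹ = x ^ (orderOf x - 1) := by
    rw [inv_eq_iff_mul_eq_one, ← pow_succ', Nat.sub_add_cancel (orderOf_pos x), pow_orderOf_eq_one]
  change x⁻¹ ∈ T
  rw [h1]
  exact hpow x hx _

/-- Sylow -/
theorem exists_conj_mem {Q S : Subgroup G} (hSQ : S ≤ Q) {p n : ℕ} (hp : p.Prime) (hS : Nat.card S = p ^ n)
    (hQ : ¬ p ^ (n + 1) ∣ Nat.card Q) {x : G} (hxQ : x ∈ Q) (hx : x ^ p = 1) : ∃ c ∈ Q, c⁻¹ * x * c ∈ S := by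
  have : Fact p.Prime := ⟨hp⟩
  have hc0 : Nat.card Q ≠ 0 := Nat.card_pos.ne'
  have hf : (Nat.card Q).factorization p = n := by
    apply le_antisymm
    · by_contra hno
      exact hQ ((Nat.pow_dvd_pow p (by omega)).trans (Nat.ordProj_dvd _ p))
    · rw [← hp.pow_dvd_iff_le_factorization hc0, ← hS]
      exact Subgroup.card_dvd_of_le hSQ
  have hS' : Nat.card (S.subgroupOf Q) = p ^ n := by
    rw [Nat.card_congr (Subgroup.subgroupOfEquivOfLe hSQ).toEquiv, hS]
  let P : Sylow p Q := Sylow.ofCard (S.subgroupOf Q) (by rw [hS', hf])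
  let x' : Q := ⟨x, hxQ⟩
  have hx' : x' ^ p = 1 := Subtype.ext hx
  have h1 : IsPGroup p (Subgroup.zpowers x') := by
    rintro ⟨y, hy⟩
    obtain ⟨k, rfl⟩ := Subgroup.mem_zpowers_iff.1 hy
    refine ⟨1, Subtype.ext ?_⟩
    change (x' ^ k) ^ p ^ 1 = 1
    rw [pow_one, ← zpow_natCast, ← zpow_mul, mul_comm, zpow_mul, zpow_natCast, hx', one_zpow]
  obtain ⟨R, hR⟩ := h1.exists_le_sylow
  obtain ⟨c, hc⟩ := MulAction.exists_smul_eq Q P R
  refine ⟨c, c.2, ?_⟩
  have h2 : x' ∈ ((c • P : Sylow p Q) : Subgroup Q) := by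
    rw [hc]
    exact hR (Subgroup.mem_zpowers x')
  rw [Sylow.smul_def, Sylow.pointwise_smul_def, Subgroup.mem_pointwise_smul_iff_inv_smul_mem] at h2
  have h3 : (c⁻¹ * x' * c : Q) ∈ S.subgroupOf Q := by
    have h4 : (MulAut.conj c)⁻¹ • x' = c⁻¹ * x' * c := by
      rw [← map_inv, MulAut.smul_def, MulAut.conj_apply, inv_inv]
    rw [← h4]
    exact h2
  exact h3

end gen

/-! ### tables -/

/-- iteration of a table -/
def it (T m p : ℕ) : ℕ := Nat.rec p (fun _ ih => lk T ih) m

theorem it_spec {g : Perm (Fin 100)} {T : ℕ} (h : ∀ i : Fin 100, ((g i : Fin 100) : ℕ) = lk T i) (m : ℕ) (i : Fin 100) :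
    (((g ^ m) i : Fin 100) : ℕ) = it T m i := by
  induction m with
  | zero => rfl
  | succ m ih =>
    rw [pow_succ', Perm.mul_apply, h, ih]
    rfl

theorem ext_nat {g h : Perm (Fin 100)} (H : ∀ i : Fin 100, ((g i : Fin 100) : ℕ) = ((h i : Fin 100) : ℕ)) : g = h :=
  Equiv.ext fun i => Fin.ext (H i)

theorem of_allB {f : ℕ → Bool} (h : allB f 100 = true) (i : Fin 100) : f i = true := (allB_iff _ _).1 h i i.2

theorem tab_of {w : List ℕ} {T : ℕ} (h : allB (fun i => Nat.beq (t1 w i) (lk T i)) 100 = true) (i : Fin 100) :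
    ((φ (hw w) i : Fin 100) : ℕ) = lk T i := by
  rw [φ_hw_apply]
  exact Nat.eq_of_beq_eq_true (of_allB h i)

theorem pow_one_of {g : Perm (Fin 100)} {T m : ℕ} (hg : ∀ i : Fin 100, ((g i : Fin 100) : ℕ) = lk T i)
    (h : allB (fun i => Nat.beq (it T m i) i) 100 = true) : g ^ m = 1 :=
  ext_nat fun i => by rw [it_spec hg]; exact Nat.eq_of_beq_eq_true (of_allB h i)

theorem ne_one_of {g : Perm (Fin 100)} {T : ℕ} (hg : ∀ i : Fin 100, ((g i : Fin 100) : ℕ) = lk T i)
    (h : allB (fun i => Nat.beq (lk T i) i) 100 = false) : g ≠ 1 := by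
  rintro rfl
  have : allB (fun i => Nat.beq (lk T i) i) 100 = true := by
    rw [allB_iff]
    intro i hi
    have := hg ⟨i, hi⟩
    change i = lk T i at this
    rw [← this]
    exact Nat.beq_refl i
  rw [this] at h
  exact Bool.noConfusion h

theorem mem_Q_of {w : List ℕ} (h : band (okw w) (not (par w)) = true) : φ (hw w) ∈ Q := by
  rw [band_eq_true] at h
  refine ⟨hw w, mem_K_of_par h.1 ?_, rfl⟩
  have := h.2
  revert this
  cases par w <;> simp

/-! ### the Sylow 5-subgroup -/

/-- `a` -/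
noncomputable def A : Perm (Fin 100) := φ (hw wa)
/-- `b` -/
noncomputable def B : Perm (Fin 100) := φ (hw wb)
/-- `c` -/
noncomputable def C : Perm (Fin 100) := φ (hw wc)

theorem hA : ∀ i : Fin 100, ((A i : Fin 100) : ℕ) = lk ta i := tab_of (by decide +kernel)
theorem hB : ∀ i : Fin 100, ((B i : Fin 100) : ℕ) = lk tb i := tab_of (by decide +kernel)
theorem hC : ∀ i : Fin 100, ((C i : Fin 100) : ℕ) = lk tc i := tab_of (by decide +kernel)
theorem A_mem : A ∈ Q := mem_Q_of (by decide +kernel)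
theorem B_mem : B ∈ Q := mem_Q_of (by decide +kernel)
theorem C_mem : C ∈ Q := mem_Q_of (by decide +kernel)
theorem A5 : A ^ 5 = 1 := pow_one_of hA (by decide +kernel)
theorem B5 : B ^ 5 = 1 := pow_one_of hB (by decide +kernel)
theorem C5 : C ^ 5 = 1 := pow_one_of hC (by decide +kernel)

theorem mul_eq {g h g' h' : Perm (Fin 100)} {s t s' t' : ℕ} (hg : ∀ i : Fin 100, ((g i : Fin 100) : ℕ) = lk s i)
    (hh : ∀ i : Fin 100, ((h i : Fin 100) : ℕ) = lk t i) (hg' : ∀ i : Fin 100, ((g' i : Fin 100) : ℕ) = lk s' i)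
    (hh' : ∀ i : Fin 100, ((h' i : Fin 100) : ℕ) = lk t' i)
    (H : allB (fun i => Nat.beq (lk s (lk t i)) (lk s' (lk t' i))) 100 = true) : g * h = g' * h' :=
  ext_nat fun i => by
    rw [Perm.mul_apply, Perm.mul_apply, hg, hh, hg', hh']
    exact Nat.eq_of_beq_eq_true (of_allB H i)

theorem CA : C * A = A * C := mul_eq hC hA hA hC (by decide +kernel)
theorem CB : C * B = B * C := mul_eq hC hB hB hC (by decide +kernel)
theorem BA : B * A = A * B * C := ext_nat fun i => by
  have h : allB (fun i => Nat.beq (lk tb (lk ta i)) (lk ta (lk tb (lk tc i)))) 100 = true := by decide +kernel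
  rw [Perm.mul_apply, Perm.mul_apply, Perm.mul_apply, hA, hB, hB, hC, hA]
  exact Nat.eq_of_beq_eq_true (of_allB h i)

/-- the `n`-th element -/
noncomputable def el (n : ℕ) : Perm (Fin 100) := A ^ (n / 25) * B ^ (n / 5 % 5) * C ^ (n % 5)

/-- its table -/
def ge (n p : ℕ) : ℕ := it ta (n / 25) (it tb (n / 5 % 5) (it tc (n % 5) p))

theorem el_apply (n : ℕ) (i : Fin 100) : ((el n i : Fin 100) : ℕ) = ge n i := by
  unfold el ge
  rw [Perm.mul_apply, Perm.mul_apply, it_spec hA, it_spec hB, it_spec hC]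

theorem el_mem (n : ℕ) : el n ∈ Q := mul_mem (mul_mem (pow_mem A_mem _) (pow_mem B_mem _)) (pow_mem C_mem _)

/-- the code of the `n`-th element -/
def cd (T n : ℕ) : ℕ := Nat.land (Nat.shiftRight T (Nat.mul 14 n)) 16383

theorem cod_ok : ∀ n < 125, cd cod n = ge n bp * 128 + ge n bq := by decide +kernel
theorem cod_inj : ∀ n < 125, ∀ m < n, cd cod n ≠ cd cod m := by decide +kernel

theorem el_inj {n m : ℕ} (hn : n < 125) (hm : m < 125) (h : el n = el m) : n = m := by
  have h1 : ge n bp = ge m bp := by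
    have h2 := el_apply n ⟨bp, by decide⟩
    rw [h, el_apply] at h2
    exact h2.symm
  have h1' : ge n bq = ge m bq := by
    have h2 := el_apply n ⟨bq, by decide⟩
    rw [h, el_apply] at h2
    exact h2.symm
  have h3 : cd cod n = cd cod m := by rw [cod_ok n hn, cod_ok m hm, h1, h1']
  rcases lt_trichotomy n m with h4 | h4 | h4
  · exact absurd h3.symm (cod_inj m hm n h4)
  · exact h4
  · exact absurd h3 (cod_inj n hn m h4)

theorem exists_S5 : ∃ S : Subgroup (Perm (Fin 100)), S ≤ Q ∧ Nat.card S = 5 ^ 3 ∧ ∀ g ∈ S, ∃ n < 125, g = el n := by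
  obtain ⟨S, hS⟩ := heis CA CB BA
  have h1 : ∀ g ∈ S, ∃ n < 125, g = el n := by
    intro g hg
    obtain ⟨i, j, k, rfl⟩ := (hS g).1 hg
    refine ⟨25 * (i % 5) + 5 * (j % 5) + k % 5, by omega, ?_⟩
    unfold el
    have e1 : (25 * (i % 5) + 5 * (j % 5) + k % 5) / 25 = i % 5 := by omega
    have e2 : (25 * (i % 5) + 5 * (j % 5) + k % 5) / 5 % 5 = j % 5 := by omega
    have e3 : (25 * (i % 5) + 5 * (j % 5) + k % 5) % 5 = k % 5 := by omega
    rw [e1, e2, e3, ← pow_mod_orderOf A i, ← pow_mod_orderOf B j, ← pow_mod_orderOf C k]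
    have key : ∀ (D : Perm (Fin 100)), D ^ 5 = 1 → ∀ m : ℕ, D ^ (m % orderOf D) = D ^ (m % 5) := by
      intro D hD m
      rw [pow_mod_orderOf]
      conv_lhs => rw [← Nat.div_add_mod m 5, pow_add, pow_mul, hD, one_pow, one_mul]
    rw [key A A5, key B B5, key C C5]
  have h2 : ∀ n, el n ∈ S := fun n => (hS _).2 ⟨_, _, _, rfl⟩
  refine ⟨S, fun g hg => ?_, ?_, h1⟩
  · obtain ⟨n, -, rfl⟩ := h1 g hg
    exact el_mem n
  · have h3 : Function.Bijective (fun n : Fin 125 => (⟨el n, h2 n⟩ : S)) := by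
      refine ⟨fun n m h => Fin.ext (el_inj n.2 m.2 (congrArg Subtype.val h)), fun g => ?_⟩
      obtain ⟨n, hn, h⟩ := h1 g g.2
      exact ⟨⟨n, hn⟩, Subtype.ext h.symm⟩
    rw [← Nat.card_congr (Equiv.ofBijective _ h3), Nat.card_eq_fintype_card, Fintype.card_fin]
    norm_num

/-- the check of the certificate -/
def chk5 (n : ℕ) : Bool :=
  band (band (okw (cws.getD n [])) (not (par (cws.getD n []))))
    (band (allB (fun p => Nat.beq (lk (tws.getD n 0) p)
      (ge n (t1 (cws.getD n []) (ge n (t1 (iw (cws.getD n [])) p))))) 100)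
    (band (not (allB (fun p => Nat.beq (lk (tws.getD n 0) p) p) 100))
      (or (allB (fun p => Nat.beq (it (tws.getD n 0) 7 p) p) 100)
        (allB (fun p => Nat.beq (it (tws.getD n 0) 11 p) p) 100))))

theorem chk5_all : allB (fun n => chk5 (n + 1)) 124 = true := by decide +kernel

theorem cert5 {n : ℕ} (hn : n < 125) (h0 : n ≠ 0) : ∃ c ∈ Q, el n * (c * el n * c⁻¹) ≠ 1 ∧
    ((el n * (c * el n * c⁻¹)) ^ 7 = 1 ∨ (el n * (c * el n * c⁻¹)) ^ 11 = 1) := by
  obtain ⟨m, rfl⟩ : ∃ m, n = m + 1 := ⟨n - 1, by omega⟩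
  have h := (allB_iff _ _).1 chk5_all m (by omega)
  simp only [chk5, band_eq_true] at h
  obtain ⟨h1, h2, h3, h4⟩ := h
  have ht : ∀ i : Fin 100, (((el (m + 1) * (φ (hw (cws.getD (m + 1) [])) * el (m + 1) *
      (φ (hw (cws.getD (m + 1) [])))⁻¹)) i : Fin 100) : ℕ) = lk (tws.getD (m + 1) 0) i := by
    intro i
    rw [← map_inv, ← hw_iw, Perm.mul_apply, Perm.mul_apply, Perm.mul_apply, el_apply, φ_hw_apply, el_apply, φ_hw_apply]
    exact (Nat.eq_of_beq_eq_true (of_allB h2 i)).symm
  refine ⟨φ (hw (cws.getD (m + 1) [])), mem_Q_of (by rw [band_eq_true]; exact h1), ne_one_of ht ?_, ?_⟩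
  · revert h3
    cases allB (fun p => Nat.beq (lk (tws.getD (m + 1) 0) p) p) 100 <;> simp
  · rw [Bool.or_eq_true] at h4
    rcases h4 with h5 | h5
    · exact Or.inl (pow_one_of ht h5)
    · exact Or.inr (pow_one_of ht h5)

theorem not_dvd5 : ¬ 5 ^ (3 + 1) ∣ Nat.card Q := by
  rw [card_Q]
  norm_num

theorem not_dvd3 : ¬ 3 ^ (2 + 1) ∣ Nat.card Q := by
  rw [card_Q]
  norm_num

/-- **elements of order 5** -/
theorem five_spec {x : Perm (Fin 100)} (hx : x ∈ Q) (h5 : x ^ 5 = 1) (h1 : x ≠ 1) : ∃ c ∈ Q,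
    x * (c * x * c⁻¹) ≠ 1 ∧ ((x * (c * x * c⁻¹)) ^ 7 = 1 ∨ (x * (c * x * c⁻¹)) ^ 11 = 1) := by
  obtain ⟨S, hSQ, hS, hS'⟩ := exists_S5
  obtain ⟨d, hd, hdS⟩ := exists_conj_mem hSQ (by norm_num) hS not_dvd5 hx h5
  obtain ⟨n, hn, he⟩ := hS' _ hdS
  have hx' : x = d * el n * d⁻¹ := by rw [← he]; group
  have h0 : n ≠ 0 := by
    rintro rfl
    apply h1
    rw [hx']
    have : el 0 = 1 := by simp [el]
    rw [this]; group
  obtain ⟨c, hc, h2, h3⟩ := cert5 hn h0
  have key : x * (d * c * d⁻¹ * x * (d * c * d⁻¹)⁻¹) = d * (el n * (c * el n * c⁻¹)) * d⁻¹ := by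
    rw [hx']; group
  refine ⟨d * c * d⁻¹, mul_mem (mul_mem hd hc) (inv_mem hd), ?_, ?_⟩
  · rw [key]
    intro h
    exact h2 (conj_eq_one_iff.1 h)
  · rw [key, conj_pow, conj_pow, conj_eq_one_iff, conj_eq_one_iff]
    exact h3

/-! ### the Sylow 3-subgroup -/

/-- `u` -/
noncomputable def U : Perm (Fin 100) := φ (hw wu)
/-- `v` -/
noncomputable def V : Perm (Fin 100) := φ (hw wv)

theorem hU : ∀ i : Fin 100, ((U i : Fin 100) : ℕ) = lk tu i := tab_of (by decide +kernel)
theorem hV : ∀ i : Fin 100, ((V i : Fin 100) : ℕ) = lk tv i := tab_of (by decide +kernel)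
theorem U_mem : U ∈ Q := mem_Q_of (by decide +kernel)
theorem V_mem : V ∈ Q := mem_Q_of (by decide +kernel)
theorem U3 : U ^ 3 = 1 := pow_one_of hU (by decide +kernel)
theorem V3 : V ^ 3 = 1 := pow_one_of hV (by decide +kernel)
theorem VU : V * U = U * V * 1 := by rw [mul_one]; exact mul_eq hV hU hU hV (by decide +kernel)

/-- the `n`-th element -/
noncomputable def el3 (n : ℕ) : Perm (Fin 100) := U ^ (n / 3) * V ^ (n % 3)

/-- its table -/
def ge3 (n p : ℕ) : ℕ := it tu (n / 3) (it tv (n % 3) p)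

theorem el3_apply (n : ℕ) (i : Fin 100) : ((el3 n i : Fin 100) : ℕ) = ge3 n i := by
  unfold el3 ge3
  rw [Perm.mul_apply, it_spec hU, it_spec hV]

theorem el3_mem (n : ℕ) : el3 n ∈ Q := mul_mem (pow_mem U_mem _) (pow_mem V_mem _)

theorem cod3_ok : ∀ n < 9, cd cod3 n = ge3 n bp3 * 128 + ge3 n bq3 := by decide +kernel
theorem cod3_inj : ∀ n < 9, ∀ m < n, cd cod3 n ≠ cd cod3 m := by decide +kernel

theorem el3_inj {n m : ℕ} (hn : n < 9) (hm : m < 9) (h : el3 n = el3 m) : n = m := by
  have h1 : ge3 n bp3 = ge3 m bp3 := by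
    have h2 := el3_apply n ⟨bp3, by decide⟩
    rw [h, el3_apply] at h2
    exact h2.symm
  have h1' : ge3 n bq3 = ge3 m bq3 := by
    have h2 := el3_apply n ⟨bq3, by decide⟩
    rw [h, el3_apply] at h2
    exact h2.symm
  have h3 : cd cod3 n = cd cod3 m := by rw [cod3_ok n hn, cod3_ok m hm, h1, h1']
  rcases lt_trichotomy n m with h4 | h4 | h4
  · exact absurd h3.symm (cod3_inj m hm n h4)
  · exact h4
  · exact absurd h3 (cod3_inj n hn m h4)

theorem exists_S3 : ∃ S : Subgroup (Perm (Fin 100)), S ≤ Q ∧ Nat.card S = 3 ^ 2 ∧ ∀ g ∈ S, ∃ n < 9, g = el3 n := by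
  obtain ⟨S, hS⟩ := heis (a := U) (b := V) (c := 1) (by simp) (by simp) VU
  have h1 : ∀ g ∈ S, ∃ n < 9, g = el3 n := by
    intro g hg
    obtain ⟨i, j, k, rfl⟩ := (hS g).1 hg
    refine ⟨3 * (i % 3) + j % 3, by omega, ?_⟩
    unfold el3
    have e1 : (3 * (i % 3) + j % 3) / 3 = i % 3 := by omega
    have e2 : (3 * (i % 3) + j % 3) % 3 = j % 3 := by omega
    rw [e1, e2, one_pow, mul_one]
    have key : ∀ (D : Perm (Fin 100)), D ^ 3 = 1 → ∀ m : ℕ, D ^ m = D ^ (m % 3) := by
      intro D hD m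
      conv_lhs => rw [← Nat.div_add_mod m 3, pow_add, pow_mul, hD, one_pow, one_mul]
    rw [key U U3 i, key V V3 j]
  have h2 : ∀ n, el3 n ∈ S := fun n => (hS _).2 ⟨n / 3, n % 3, 0, by rw [pow_zero, mul_one]; rfl⟩
  refine ⟨S, fun g hg => ?_, ?_, h1⟩
  · obtain ⟨n, -, rfl⟩ := h1 g hg
    exact el3_mem n
  · have h3 : Function.Bijective (fun n : Fin 9 => (⟨el3 n, h2 n⟩ : S)) := by
      refine ⟨fun n m h => Fin.ext (el3_inj n.2 m.2 (congrArg Subtype.val h)), fun g => ?_⟩
      obtain ⟨n, hn, h⟩ := h1 g g.2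
      exact ⟨⟨n, hn⟩, Subtype.ext h.symm⟩
    rw [← Nat.card_congr (Equiv.ofBijective _ h3), Nat.card_eq_fintype_card, Fintype.card_fin]
    norm_num

/-- the check of the certificate -/
def chk3 (n : ℕ) : Bool :=
  band (band (okw (yws.getD n [])) (not (par (yws.getD n []))))
    (band (allB (fun p => Nat.beq (ge3 n (t1 (yws.getD n []) p))
      (t1 (yws.getD n []) (t1 (yws.getD n []) (ge3 n p)))) 100)
    (band (not (allB (fun p => Nat.beq (t1 (yws.getD n []) p) p) 100))
      (allB (fun p => Nat.beq (t1 (yws.getD n []) (t1 (yws.getD n []) (t1 (yws.getD n []) (t1 (yws.getD n [])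
        (t1 (yws.getD n []) (t1 (yws.getD n []) (t1 (yws.getD n []) p))))))) p) 100)))

theorem chk3_all : allB (fun n => chk3 (n + 1)) 8 = true := by decide +kernel

theorem cert3 {n : ℕ} (hn : n < 9) (h0 : n ≠ 0) : ∃ y ∈ Q, y ≠ 1 ∧ y ^ 7 = 1 ∧ el3 n * y * (el3 n)⁻¹ = y ^ 2 := by
  obtain ⟨m, rfl⟩ : ∃ m, n = m + 1 := ⟨n - 1, by omega⟩
  have h := (allB_iff _ _).1 chk3_all m (by omega)
  simp only [chk3, band_eq_true] at h
  obtain ⟨h1, h2, h3, h4⟩ := h
  have hy : ∀ i : Fin 100, ((φ (hw (yws.getD (m + 1) [])) i : Fin 100) : ℕ) = t1 (yws.getD (m + 1) []) i := fun i =>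
    φ_hw_apply _ i
  refine ⟨φ (hw (yws.getD (m + 1) [])), mem_Q_of (by rw [band_eq_true]; exact h1), ?_, ?_, ?_⟩
  · intro he
    have : allB (fun p => Nat.beq (t1 (yws.getD (m + 1) []) p) p) 100 = true := by
      rw [allB_iff]
      intro i hi
      have h5 := hy ⟨i, hi⟩
      rw [he] at h5
      change i = _ at h5
      rw [← h5]
      exact Nat.beq_refl i
    rw [this] at h3
    exact Bool.noConfusion h3
  · refine ext_nat fun i => ?_
    simp only [pow_succ, pow_zero, one_mul, Perm.mul_apply, Perm.one_apply, hy]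
    exact Nat.eq_of_beq_eq_true (of_allB h4 i)
  · rw [mul_inv_eq_iff_eq_mul]
    refine ext_nat fun i => ?_
    rw [pow_two, Perm.mul_apply, Perm.mul_apply, Perm.mul_apply, el3_apply, hy, hy, hy, el3_apply]
    exact Nat.eq_of_beq_eq_true (of_allB h2 i)

/-- **elements of order 3** -/
theorem three_spec {x : Perm (Fin 100)} (hx : x ∈ Q) (h3 : x ^ 3 = 1) (h1 : x ≠ 1) :
    ∃ y ∈ Q, y ≠ 1 ∧ y ^ 7 = 1 ∧ x * y * x⁻¹ = y ^ 2 := by
  obtain ⟨S, hSQ, hS, hS'⟩ := exists_S3
  obtain ⟨d, hd, hdS⟩ := exists_conj_mem hSQ (by norm_num) hS not_dvd3 hx h3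
  obtain ⟨n, hn, he⟩ := hS' _ hdS
  have hx' : x = d * el3 n * d⁻¹ := by rw [← he]; group
  have h0 : n ≠ 0 := by
    rintro rfl
    apply h1
    rw [hx']
    have : el3 0 = 1 := by simp [el3]
    rw [this]; group
  obtain ⟨y, hy, h2, h4, h5⟩ := cert3 hn h0
  refine ⟨d * y * d⁻¹, mul_mem (mul_mem hd hy) (inv_mem hd), ?_, ?_, ?_⟩
  · intro h
    exact h2 (conj_eq_one_iff.1 h)
  · rw [conj_pow, h4]; group
  · rw [conj_pow, ← h5, hx']; group

end Cfsg.Agent.H344.RR.HSF
end

-- part: H344/RR/HSInv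
section
/-!
# Higman-Sims: the involutions of `Aut HS` and the elements of order 5 commuting with an outer involution (helper344)
-/

set_option autoImplicit false
set_option maxRecDepth 100000

namespace Cfsg.Agent.H344.RR.HSF

open Cfsg.Agent.HN.Pres Cfsg.Agent.HN.HS100 Cfsg.Agent.HN.P1408 Cfsg.Agent.HN.H0Basic Cfsg.Agent.HN.AutBound
open Cfsg.Agent.SporadicA.PermTab Cfsg.Agent.HN.Classes Cfsg.Agent.H344.RR.HSD
open Equiv Subgroup

/-- iteration of a word -/
def itw (w : List ℕ) (m p : ℕ) : ℕ := Nat.rec p (fun _ ih => t1 w ih) m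

theorem itw_spec (w : List ℕ) (m : ℕ) (i : Fin 100) : (((φ (hw w) ^ m) i : Fin 100) : ℕ) = itw w m i := by
  induction m with
  | zero => rfl
  | succ m ih =>
    rw [pow_succ', Perm.mul_apply, φ_hw_apply, ih]
    rfl

theorem wpow_one {w : List ℕ} {m : ℕ} (h : allB (fun i => Nat.beq (itw w m i) i) 100 = true) : φ (hw w) ^ m = 1 :=
  ext_nat fun i => by rw [itw_spec]; exact Nat.eq_of_beq_eq_true (of_allB h i)

theorem w_ne_one {w : List ℕ} (h : allB (fun i => Nat.beq (t1 w i) i) 100 = false) : φ (hw w) ≠ 1 := by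
  intro he
  have : allB (fun i => Nat.beq (t1 w i) i) 100 = true := by
    rw [allB_iff]
    intro i hi
    have h1 := φ_hw_apply w ⟨i, hi⟩
    rw [he] at h1
    change i = t1 w i at h1
    rw [← h1]
    exact Nat.beq_refl i
  rw [this] at h
  exact Bool.noConfusion h

/-- the product of a word with its conjugate -/
def cj (r c : List ℕ) : List ℕ := r ++ (c ++ (r ++ iw c))

theorem hw_cj (r c : List ℕ) : φ (hw (cj r c)) = φ (hw r) * (φ (hw c) * φ (hw r) * (φ (hw c))⁻¹) := by
  unfold cj
  rw [hw_append, hw_append, hw_append, hw_iw]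
  simp only [map_mul, map_inv, mul_assoc]

theorem Q_normal {g q : Perm (Fin 100)} (hg : g ∈ autG 100 adjA) (hq : q ∈ Q) : g * q * g⁻¹ ∈ Q := by
  rw [mem_Q_iff] at hq ⊢
  refine ⟨mul_mem (mul_mem hg hq.1) (inv_mem hg), ?_⟩
  rw [map_mul, map_mul, hq.2, map_inv, mul_one, mul_inv_cancel]

/-- the conclusion for the involutions -/
def Inv5 (t : Perm (Fin 100)) : Prop := t ∈ Q ∧ ∃ c ∈ Q, ∃ w ∈ Q, t * (c * t * c⁻¹) ≠ 1 ∧ (t * (c * t * c⁻¹)) ^ 5 = 1 ∧
  w ≠ 1 ∧ w ^ 11 = 1 ∧ (t * (c * t * c⁻¹)) * w * (t * (c * t * c⁻¹))⁻¹ = w ^ 9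

/-- inverts an element of order `r` -/
def InvR (r : ℕ) (t : Perm (Fin 100)) : Prop := ∃ c ∈ Q, t * (c * t * c⁻¹) ≠ 1 ∧ (t * (c * t * c⁻¹)) ^ r = 1

theorem Inv5.conj {t g : Perm (Fin 100)} (hg : g ∈ autG 100 adjA) (h : Inv5 t) : Inv5 (g * t * g⁻¹) := by
  obtain ⟨h0, c, hc, w, hw, h1, h2, h3, h4, h5⟩ := h
  have e : g * t * g⁻¹ * (g * c * g⁻¹ * (g * t * g⁻¹) * (g * c * g⁻¹)⁻¹) = g * (t * (c * t * c⁻¹)) * g⁻¹ := by group
  refine ⟨Q_normal hg h0, g * c * g⁻¹, Q_normal hg hc, g * w * g⁻¹, Q_normal hg hw, ?_, ?_, ?_, ?_, ?_⟩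
  · rw [e]; exact fun h => h1 (conj_eq_one_iff.1 h)
  · rw [e, conj_pow, h2]; group
  · exact fun h => h3 (conj_eq_one_iff.1 h)
  · rw [conj_pow, h4]; group
  · rw [e, conj_pow, ← h5]; group

theorem InvR.conj {r : ℕ} {t g : Perm (Fin 100)} (hg : g ∈ autG 100 adjA) (h : InvR r t) : InvR r (g * t * g⁻¹) := by
  obtain ⟨c, hc, h1, h2⟩ := h
  have e : g * t * g⁻¹ * (g * c * g⁻¹ * (g * t * g⁻¹) * (g * c * g⁻¹)⁻¹) = g * (t * (c * t * c⁻¹)) * g⁻¹ := by group
  refine ⟨g * c * g⁻¹, Q_normal hg hc, ?_, ?_⟩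
  · rw [e]; exact fun h => h1 (conj_eq_one_iff.1 h)
  · rw [e, conj_pow, h2]; group

theorem inv5_a : Inv5 (φ Cfsg.Agent.HN.Syl.a) := by
  rw [← Cfsg.Agent.HN.Syl.hw_a]
  have hc : φ (hw [0, 2, 0]) ∈ Q := mem_Q_of (by decide +kernel)
  have hw' : φ (hw w11) ∈ Q := mem_Q_of (by decide +kernel)
  refine ⟨mem_Q_of (by decide +kernel), _, hc, _, hw', ?_, ?_, ?_, ?_, ?_⟩
  · rw [← hw_cj]; exact w_ne_one (by decide +kernel)
  · rw [← hw_cj]; exact wpow_one (by decide +kernel)
  · exact w_ne_one (by decide +kernel)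
  · exact wpow_one (by decide +kernel)
  · rw [← hw_cj, mul_inv_eq_iff_eq_mul]
    have h : allB (fun i => Nat.beq (t1 (cj [2, 2, 2] [0, 2, 0]) (t1 w11 i)) (itw w11 9 (t1 (cj [2, 2, 2] [0, 2, 0]) i))) 100
      = true := by decide +kernel
    refine ext_nat fun i => ?_
    rw [Perm.mul_apply, Perm.mul_apply, φ_hw_apply, φ_hw_apply, itw_spec, φ_hw_apply]
    exact Nat.eq_of_beq_eq_true (of_allB h i)

theorem invR_x : InvR 7 (φ gx) := by
  rw [← hw_x]
  have hc : φ (hw [2, 2, 1, 2, 2]) ∈ Q := mem_Q_of (by decide +kernel)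
  refine ⟨_, hc, ?_, ?_⟩
  · rw [← hw_cj]; exact w_ne_one (by decide +kernel)
  · rw [← hw_cj]; exact wpow_one (by decide +kernel)

theorem invR_d : InvR 7 (φ Cfsg.Agent.HN.Syl.d) := by
  have hc : φ (hw [3, 3, 0, 3, 3]) ∈ Q := mem_Q_of (by decide +kernel)
  refine ⟨_, hc, ?_, ?_⟩
  · unfold Cfsg.Agent.HN.Syl.d
    rw [← hw_cj]; exact w_ne_one (by decide +kernel)
  · unfold Cfsg.Agent.HN.Syl.d
    rw [← hw_cj]; exact wpow_one (by decide +kernel)

theorem invR_z : InvR 3 Z := by
  rw [← φ_gz, ← hw_z]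
  have hc : φ (hw [2]) ∈ Q := mem_Q_of (by decide +kernel)
  refine ⟨_, hc, ?_, ?_⟩
  · rw [← hw_cj]; exact w_ne_one (by decide +kernel)
  · rw [← hw_cj]; exact wpow_one (by decide +kernel)

/-- **involutions** -/
theorem inv_spec {t : Perm (Fin 100)} (ht : t ∈ autG 100 adjA) (h2 : t * t = 1) (h1 : t ≠ 1) :
    Inv5 t ∨ InvR 7 t ∨ (InvR 3 t ∧ ∃ g ∈ autG 100 adjA, t = g * Z * g⁻¹) := by
  rw [← range_eq] at ht
  obtain ⟨v, rfl⟩ := ht
  have hv : v ^ 2 = 1 ∨ v ^ 2 = τ := by
    rw [← φ_eq_one_iff, map_pow, pow_two, h2]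
  have hmem : ∀ g : H0, φ g ∈ autG 100 adjA := fun g => by rw [← range_eq]; exact ⟨g, rfl⟩
  have hcon : ∀ u : H0, IsConj u v → ∃ g ∈ autG 100 adjA, φ v = g * φ u * g⁻¹ := by
    intro u hu
    obtain ⟨c, hc⟩ := isConj_iff.1 hu
    exact ⟨φ c, hmem c, by rw [← hc, map_mul, map_mul, map_inv]⟩
  rcases Cfsg.Agent.HN.Syl.sq_cases hv with h | h | h | h | h | h | h
  · exact absurd (by rw [h, map_one]) h1
  · exact absurd (by rw [h, φ_τ]) h1
  · obtain ⟨g, hg, he⟩ := hcon _ h
    rw [he]
    exact Or.inl (inv5_a.conj hg)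
  · obtain ⟨g, hg, he⟩ := hcon _ h
    rw [he, map_mul, φ_τ, mul_one]
    exact Or.inl (inv5_a.conj hg)
  · obtain ⟨g, hg, he⟩ := hcon _ h
    rw [he]
    exact Or.inr (Or.inl (invR_x.conj hg))
  · obtain ⟨g, hg, he⟩ := hcon _ h
    rw [he, φ_gz]
    exact Or.inr (Or.inr ⟨invR_z.conj hg, g, hg, rfl⟩)
  · obtain ⟨g, hg, he⟩ := hcon _ h
    rw [he]
    exact Or.inr (Or.inl (invR_d.conj hg))

end Cfsg.Agent.H344.RR.HSF
end

-- part: H344/RR/HSFive
section
/-!
# Higman-Sims: an element of order 5 commuting with an involution of type 2C (helper344)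
-/

set_option autoImplicit false
set_option maxRecDepth 100000

namespace Cfsg.Agent.H344.RR.HSF

open Cfsg.Agent.HN.Pres Cfsg.Agent.HN.HS100 Cfsg.Agent.HN.P1408 Cfsg.Agent.HN.H0Basic Cfsg.Agent.HN.AutBound
open Cfsg.Agent.SporadicA.PermTab Cfsg.Agent.HN.Classes Cfsg.Agent.H344.RR.HSD Cfsg.Agent.HN.Local
open Equiv Subgroup

/-! ### the alternating group of degree 8 -/

/-- the standard 5-cycle -/
def c0 : Perm (Fin 8) := swap 0 1 * swap 1 2 * swap 2 3 * swap 3 4
/-- the conjugating element -/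
def k0 : Perm (Fin 8) := swap 0 1 * swap 1 3

theorem k0_even : Perm.sign k0 = 1 := by decide
theorem c0_pow : c0 ^ 5 = 1 := by decide +kernel
theorem c0_ne : c0 ≠ 1 := by decide +kernel
theorem c0_prod : (c0 * (k0 * c0 * k0⁻¹)) ^ 3 = 1 ∧ c0 * (k0 * c0 * k0⁻¹) ≠ 1 := by decide +kernel

theorem cyc_of_five {s : Perm (Fin 8)} (h5 : s ^ 5 = 1) (h1 : s ≠ 1) : s.cycleType = {5} := by
  have : Fact (Nat.Prime 5) := ⟨by norm_num⟩
  have ho : orderOf s = 5 := orderOf_eq_prime h5 h1
  have h2 : s.IsCycle := Perm.isCycle_of_prime_order (by rw [ho]; norm_num) (by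
    rw [ho]
    calc s.support.card ≤ Fintype.card (Fin 8) := Finset.card_le_univ _
      _ < 2 * 5 := by decide)
  rw [h2.cycleType, ← h2.orderOf, ho]

theorem a8_spec {x s : Perm (Fin 8)} (h5 : x ^ 5 = 1) (h1 : x ≠ 1) (h3 : s ^ 3 = 1) (hc : x * s = s * x) :
    ∃ c : Perm (Fin 8), Perm.sign c = 1 ∧ c * s = s * c ∧ (x * (c * x * c⁻¹)) ^ 3 = 1 ∧ x * (c * x * c⁻¹) ≠ 1 := by
  have hcj : IsConj c0 x := by
    rw [Perm.isConj_iff_cycleType_eq, cyc_of_five c0_pow c0_ne, cyc_of_five h5 h1]
  obtain ⟨p, hp⟩ := isConj_iff.1 hcj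
  set s' : Perm (Fin 8) := p⁻¹ * s * p with hs'
  have hs3 : s' ^ 3 = 1 := by
    have : s' ^ 3 = p⁻¹ * s ^ 3 * p := by rw [hs']; simp only [pow_succ, pow_zero, one_mul]; group
    rw [this, h3]; group
  have hsc : c0 * s' = s' * c0 := by
    have h2 : c0 = p⁻¹ * x * p := by rw [← hp]; group
    rw [h2, hs']
    calc p⁻¹ * x * p * (p⁻¹ * s * p) = p⁻¹ * (x * s) * p := by group
      _ = p⁻¹ * s * p * (p⁻¹ * x * p) := by rw [hc]; group
  -- `s'` fixes the points `0, ..., 4`
  have happ : ∀ i, s' (c0 i) = c0 (s' i) := fun i => by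
    have := congrArg (fun q : Perm (Fin 8) => q i) hsc
    exact this.symm
  have hfix : s' 0 = 0 := by
    have h0 : s' 1 = c0 (s' 0) := by rw [← happ]; congr 1
    have h2 : s' 2 = c0 (s' 1) := by rw [← happ]; congr 1
    have h4 : s' 3 = c0 (s' 2) := by rw [← happ]; congr 1
    have h6 : s' 4 = c0 (s' 3) := by rw [← happ]; congr 1
    have hss : s' (s' (s' 0)) = 0 := by
      have := congrArg (fun q : Perm (Fin 8) => q 0) hs3
      simpa only [pow_succ, _root_.Fin.isValue, _root_.pow_zero, _root_.one_mul, _root_.Equiv.Perm.coe_mul, _root_.Function.comp_apply, _root_.Equiv.Perm.coe_one, _root_.id_eq] using this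
    have hne : s' 1 ≠ s' 0 := fun h => absurd (s'.injective h) (by decide)
    rw [h0] at hne h2
    rw [h2] at h4
    rw [h4] at h6
    generalize hj : s' 0 = j at *
    have key : ∀ j : Fin 8, c0 j ≠ j → j = 0 ∨ j = 1 ∨ j = 2 ∨ j = 3 ∨ j = 4 := by decide +kernel
    rcases key j hne with rfl | rfl | rfl | rfl | rfl
    · rfl
    · exfalso
      rw [h0, show c0 1 = 2 by decide +kernel, h2] at hss
      revert hss; decide +kernel
    · exfalso
      rw [h2, show c0 (c0 2) = 4 by decide +kernel, h6] at hss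
      revert hss; decide +kernel
    · exfalso
      rw [h4, show c0 (c0 (c0 3)) = 1 by decide +kernel, h0] at hss
      revert hss; decide +kernel
    · exfalso
      rw [h6, show c0 (c0 (c0 (c0 4))) = 3 by decide +kernel, h4] at hss
      revert hss; decide +kernel
  have hf1 : s' 1 = 1 := by
    have h0 : s' 1 = c0 (s' 0) := by rw [← happ]; congr 1
    rw [h0, hfix]; decide +kernel
  have hf2 : s' 2 = 2 := by
    have h0 : s' 2 = c0 (s' 1) := by rw [← happ]; congr 1
    rw [h0, hf1]; decide +kernel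
  have hf3 : s' 3 = 3 := by
    have h0 : s' 3 = c0 (s' 2) := by rw [← happ]; congr 1
    rw [h0, hf2]; decide +kernel
  have hk : k0 * s' = s' * k0 := by
    refine (Perm.Disjoint.commute fun i => ?_).eq
    have key : ∀ i : Fin 8, k0 i = i ∨ i = 0 ∨ i = 1 ∨ i = 3 := by decide +kernel
    rcases key i with h | rfl | rfl | rfl
    · exact Or.inl h
    · exact Or.inr hfix
    · exact Or.inr hf1
    · exact Or.inr hf3
  have e : x * (p * k0 * p⁻¹ * x * (p * k0 * p⁻¹)⁻¹) = p * (c0 * (k0 * c0 * k0⁻¹)) * p⁻¹ := by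
    rw [← hp]; group
  refine ⟨p * k0 * p⁻¹, ?_, ?_, ?_, ?_⟩
  · rw [map_mul, map_mul, k0_even, map_inv, mul_one, mul_inv_cancel]
  · have h2 : s = p * s' * p⁻¹ := by rw [hs']; group
    rw [h2]
    calc p * k0 * p⁻¹ * (p * s' * p⁻¹) = p * (k0 * s') * p⁻¹ := by group
      _ = p * s' * p⁻¹ * (p * k0 * p⁻¹) := by rw [hk]; group
  · rw [e, conj_pow, c0_prod.1]; group
  · rw [e]
    intro h
    exact c0_prod.2 (conj_eq_one_iff.1 h)

/-! ### the centralizer of `Z` -/

theorem of_central {s : A8} (h : φ (Cfsg.Agent.HN.Iota.iota s) = 1) : s = 1 := by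
  rcases φ_eq_one_iff.1 h with h1 | h1
  · exact Cfsg.Agent.HN.Iota.iota_inj (by rw [h1, map_one])
  · refine Cfsg.Agent.HN.Iota.eq_one_of_central fun g => ?_
    rw [h1]
    exact (τ_comm g).symm

theorem exists_iota_of {y : Perm (Fin 100)} (hy : y ∈ Q) {m : ℕ} (hm : Odd m) (hym : y ^ m = 1) (hyZ : y * Z = Z * y) :
    ∃ s : A8, y = φ (Cfsg.Agent.HN.Iota.iota s) := by
  obtain ⟨h, hK, rfl⟩ := hy
  obtain ⟨k, rfl⟩ := hm
  have hz : h * gz * h⁻¹ = gz ∨ h * gz * h⁻¹ = gz * τ := by
    have h1 : φ (gz⁻¹ * (h * gz * h⁻¹)) = 1 := by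
      rw [map_mul, map_mul, map_mul, map_inv, map_inv, φ_gz, hyZ]; group
    rcases φ_eq_one_iff.1 h1 with h2 | h2
    · left
      rw [inv_mul_eq_one] at h2
      exact h2.symm
    · right
      rw [← h2]; group
  have hz2 : h ^ 2 * gz = gz * h ^ 2 := by
    have e1 : h ^ 2 * gz * (h ^ 2)⁻¹ = h * (h * gz * h⁻¹) * h⁻¹ := by rw [pow_two]; group
    have e2 : h ^ 2 * gz * (h ^ 2)⁻¹ = gz := by
      rw [e1]
      rcases hz with h2 | h2
      · rw [h2, h2]
      · rw [h2]
        calc h * (gz * τ) * h⁻¹ = h * gz * h⁻¹ * τ := by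
              rw [← mul_assoc, mul_assoc (h * gz), ← τ_comm h⁻¹, ← mul_assoc]
          _ = gz := by rw [h2, mul_assoc, τ_mul_τ, mul_one]
    exact mul_inv_eq_iff_eq_mul.1 e2
  set h' : H0 := h ^ (2 * k + 1 + 1) with hh'
  have hφ : φ h' = φ h := by rw [hh', pow_succ, map_mul, map_pow, hym, one_mul]
  have hc1 : Commute h' gz := by
    rw [hh', show 2 * k + 1 + 1 = 2 * (k + 1) by ring, pow_mul]
    exact (show Commute (h ^ 2) gz from hz2).pow_left _
  have hc2 : Commute h' τ := τ_comm h'
  obtain ⟨q, hq, s, hs⟩ := Cfsg.Agent.HN.IotaCent.cent.cent h' hc2 hc1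
  refine ⟨s, ?_⟩
  rw [← hφ, hs, map_mul]
  have hqK : q ∈ K := by
    have h1 : q = h' * (Cfsg.Agent.HN.Iota.iota s)⁻¹ := by rw [hs]; group
    rw [h1]
    exact K.mul_mem (K.pow_mem hK _) (K.inv_mem (Cfsg.Agent.HN.Iota.iota_mem_K s))
  have hq1 : φ q = 1 := by
    rw [φ_eq_one_iff]
    rcases hq with h1 | h1 | h1 | h1
    · exact Or.inl h1
    · exact Or.inr h1
    · rw [h1] at hqK
      exact absurd hqK gz_not_mem
    · rw [h1] at hqK
      have := (K.mul_mem_cancel_left τ_mem_K).1 hqK
      exact absurd this gz_not_mem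
  rw [hq1, one_mul]

/-- **an element of order 5 commuting with `Z`** -/
theorem r5_Z {x s : Perm (Fin 100)} (hx : x ∈ Q) (hs : s ∈ Q) (h5 : x ^ 5 = 1) (h1 : x ≠ 1) (h3 : s ^ 3 = 1)
    (hxs : x * s = s * x) (hxZ : x * Z = Z * x) (hsZ : s * Z = Z * s) :
    ∃ c ∈ Q, c * Z = Z * c ∧ c * s = s * c ∧ (x * (c * x * c⁻¹)) ^ 3 = 1 ∧ x * (c * x * c⁻¹) ≠ 1 := by
  obtain ⟨x', rfl⟩ := exists_iota_of hx (m := 5) (by decide) h5 hxZ
  obtain ⟨s', rfl⟩ := exists_iota_of hs (m := 3) (by decide) h3 hsZ
  have g5 : x' ^ 5 = 1 := of_central (by rw [map_pow, map_pow, h5])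
  have g3 : s' ^ 3 = 1 := of_central (by rw [map_pow, map_pow, h3])
  have g1 : x' ≠ 1 := fun h => h1 (by rw [h, map_one, map_one])
  have gc : x' * s' = s' * x' := by
    have h2 : x' * s' * (s' * x')⁻¹ = 1 := of_central (by
      rw [map_mul, map_mul, map_inv, map_inv, map_mul, map_mul, map_mul, map_mul, hxs]; group)
    exact mul_inv_eq_one.1 h2
  obtain ⟨c, hc0, hc1, hc2, hc3⟩ := a8_spec (x := (x' : Perm (Fin 8))) (s := (s' : Perm (Fin 8)))
    (by have := congrArg Subtype.val g5; exact this) (fun h => g1 (Subtype.ext h)) (by have := congrArg Subtype.val g3; exact this)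
    (by have := congrArg Subtype.val gc; exact this)
  let c' : A8 := ⟨c, Perm.mem_alternatingGroup.2 hc0⟩
  have k1 : c' * s' = s' * c' := Subtype.ext hc1
  have k2 : (x' * (c' * x' * c'⁻¹)) ^ 3 = 1 := Subtype.ext hc2
  refine ⟨φ (Cfsg.Agent.HN.Iota.iota c'), ⟨_, Cfsg.Agent.HN.Iota.iota_mem_K c', rfl⟩, ?_, ?_, ?_, ?_⟩
  · rw [← φ_gz, ← map_mul, ← map_mul, (Cfsg.Agent.HN.Iota.z_iota c').eq]
  · rw [← map_mul, ← map_mul, ← map_mul, ← map_mul, k1]
  · have h2 := congrArg (fun g => φ (Cfsg.Agent.HN.Iota.iota g)) k2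
    simpa only [map_pow, map_mul, map_inv, map_one] using h2
  · intro h
    apply hc3
    have h2 : x' * (c' * x' * c'⁻¹) = 1 := of_central (by simpa only [map_mul, map_inv] using h)
    exact congrArg Subtype.val h2

/-- **an element of order 5 commuting with an involution of type 2C** -/
theorem r5_spec {t g x s : Perm (Fin 100)} (hg : g ∈ autG 100 adjA) (ht : t = g * Z * g⁻¹) (hx : x ∈ Q) (hs : s ∈ Q)
    (h5 : x ^ 5 = 1) (h1 : x ≠ 1) (h3 : s ^ 3 = 1) (hxs : x * s = s * x) (hxt : x * t = t * x) (hst : s * t = t * s) :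
    ∃ c ∈ Q, c * t = t * c ∧ c * s = s * c ∧ (x * (c * x * c⁻¹)) ^ 3 = 1 ∧ x * (c * x * c⁻¹) ≠ 1 := by
  have hg' := inv_mem hg
  have Qn : ∀ q ∈ Q, g⁻¹ * q * g ∈ Q := fun q hq => by
    have := Q_normal hg' hq
    rwa [inv_inv] at this
  have hcm : ∀ a b : Perm (Fin 100), a * b = b * a → (g⁻¹ * a * g) * (g⁻¹ * b * g) = (g⁻¹ * b * g) * (g⁻¹ * a * g) := by
    intro a b hab
    calc (g⁻¹ * a * g) * (g⁻¹ * b * g) = g⁻¹ * (a * b) * g := by group
      _ = _ := by rw [hab]; group
  have hZ : Z = g⁻¹ * t * g := by rw [ht]; group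
  have hpw : ∀ (a : Perm (Fin 100)) (n : ℕ), (g⁻¹ * a * g) ^ n = g⁻¹ * a ^ n * g := by
    intro a n
    have := conj_pow (a := g⁻¹) (b := a) (i := n)
    rwa [inv_inv] at this
  obtain ⟨c, hc, c1, c2, c3, c4⟩ := r5_Z (x := g⁻¹ * x * g) (s := g⁻¹ * s * g) (Qn x hx) (Qn s hs)
    (by rw [hpw, h5]; group) (fun h => h1 (by
      have : x = g * (g⁻¹ * x * g) * g⁻¹ := by group
      rw [this, h]; group)) (by rw [hpw, h3]; group) (hcm _ _ hxs) (by rw [hZ]; exact hcm _ _ hxt)
    (by rw [hZ]; exact hcm _ _ hst)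
  have e : x * (g * c * g⁻¹ * x * (g * c * g⁻¹)⁻¹) = g * (g⁻¹ * x * g * (c * (g⁻¹ * x * g) * c⁻¹)) * g⁻¹ := by group
  refine ⟨g * c * g⁻¹, Q_normal hg hc, ?_, ?_, ?_, ?_⟩
  · rw [ht]
    calc g * c * g⁻¹ * (g * Z * g⁻¹) = g * (c * Z) * g⁻¹ := by group
      _ = _ := by rw [c1]; group
  · calc g * c * g⁻¹ * s = g * (c * (g⁻¹ * s * g)) * g⁻¹ := by group
      _ = _ := by rw [c2]; group
  · rw [e, conj_pow, c3]; group
  · rw [e]
    exact fun h => c4 (conj_eq_one_iff.1 h)

end Cfsg.Agent.H344.RR.HSF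
end

-- part: H344/RR/HSRho
section
/-!
# Higman-Sims: the action of `G` (`N ≅ HS` normal, `C(N) = 1`) on 100 points (helper344)
-/

set_option autoImplicit false

namespace Cfsg.Agent.H344.RR.HSF

open Cfsg.Agent.HN.Pres Cfsg.Agent.HN.HS100 Cfsg.Agent.HN.P1408 Cfsg.Agent.HN.H0Basic Cfsg.Agent.HN.AutBound
open Cfsg.Agent.SporadicA.PermTab Cfsg.Agent.HN.Classes
open Equiv Subgroup

/-- uniqueness -/
theorem perm_unique {p q : Perm (Fin 100)} (h : ∀ x : Q, p * x * p⁻¹ = q * x * q⁻¹) : p = q := by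
  have h1 : q⁻¹ * p = 1 := by
    refine Cfsg.Agent.HN.AutHS.eq_one_of_comm fun x hx => ?_
    have h2 := h ⟨x, hx⟩
    calc q⁻¹ * p * x = q⁻¹ * (p * x * p⁻¹) * p := by group
      _ = q⁻¹ * (q * x * q⁻¹) * p := by rw [h2]
      _ = x * (q⁻¹ * p) := by group
  exact (inv_mul_eq_one.1 h1).symm

/-- **the homomorphism** -/
theorem exists_rho {G : Type*} [Group G] {N : Subgroup G} [hN : N.Normal] (e : N ≃* Q)
    (hC : centralizer (N : Set G) = ⊥) : ∃ ρ : G →* Perm (Fin 100), Function.Injective ρ ∧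
      (∀ g, ρ g ∈ autG 100 adjA) ∧ (∀ g, ρ g ∈ Q ↔ g ∈ N) ∧ (∀ n : N, ρ n = e n) := by
  -- the automorphism of `Q` induced by `g`
  let σ : G → (Q ≃* Q) := fun g => (e.symm.trans (MulAut.conjNormal g : MulAut N)).trans e
  have hσ : ∀ (g : G) (n : N), σ g (e n) = e (MulAut.conjNormal g n) := by
    intro g n
    show e (MulAut.conjNormal g (e.symm (e n))) = _
    rw [MulEquiv.symm_apply_apply]
  choose p hp1 hp2 using fun g => Cfsg.Agent.HN.AutHS.exists_perm (σ g)
  have hmul : ∀ g h, p (g * h) = p g * p h := by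
    intro g h
    refine perm_unique fun x => ?_
    obtain ⟨n, rfl⟩ := e.surjective x
    have h1 : p g * p h * (e n : Perm (Fin 100)) * (p g * p h)⁻¹ = p g * (p h * e n * (p h)⁻¹) * (p g)⁻¹ := by group
    rw [← hp2, hσ, h1, ← hp2, hσ, ← hp2, hσ, map_mul]
    rfl
  have hone : p 1 = 1 := by
    have := hmul 1 1
    rw [one_mul] at this
    exact mul_eq_right.1 this.symm
  let ρ : G →* Perm (Fin 100) := { toFun := p, map_one' := hone, map_mul' := hmul }
  have hρn : ∀ n : N, ρ n = e n := by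
    intro n
    refine perm_unique fun x => ?_
    obtain ⟨m, rfl⟩ := e.surjective x
    change p n * (e m : Perm (Fin 100)) * (p n)⁻¹ = _
    rw [← hp2, hσ]
    have h1 : (MulAut.conjNormal (n : G) m : N) = n * m * n⁻¹ := by
      apply Subtype.ext
      rw [MulAut.conjNormal_apply]; rfl
    rw [h1, map_mul, map_mul, map_inv]
    rfl
  have hinj : Function.Injective ρ := by
    rw [injective_iff_map_eq_one]
    intro g hg
    have h1 : g ∈ centralizer (N : Set G) := by
      rw [mem_centralizer_iff]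
      intro n hn
      have h2 := hp2 g (e ⟨n, hn⟩)
      have h3 : p g = 1 := hg
      rw [hσ, h3, one_mul, inv_one, mul_one] at h2
      have h4 := congrArg Subtype.val (e.injective (Subtype.ext h2))
      rw [MulAut.conjNormal_apply] at h4
      have h5 : g * n * g⁻¹ = n := h4
      exact (mul_inv_eq_iff_eq_mul.1 h5).symm
    rw [hC] at h1
    exact h1
  refine ⟨ρ, hinj, hp1, fun g => ⟨fun hg => ?_, fun hg => ?_⟩, hρn⟩
  · obtain ⟨n, hn⟩ := e.surjective ⟨ρ g, hg⟩
    have h1 : ρ g = ρ n := by rw [hρn, hn]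
    rw [hinj h1]
    exact n.2
  · have := hρn ⟨g, hg⟩
    change ρ g = _ at this
    rw [this]
    exact Subtype.property _

/-- elements of odd order are in `N` -/
theorem mem_of_odd {g : Perm (Fin 100)} (hg : g ∈ autG 100 adjA) {m : ℕ} (hm : Odd m) (h : g ^ m = 1) : g ∈ Q := by
  rw [mem_Q_iff]
  refine ⟨hg, ?_⟩
  have h1 : Perm.sign g ^ m = 1 := by rw [← map_pow, h, map_one]
  obtain ⟨k, rfl⟩ := hm
  rw [pow_succ, pow_mul, Int.units_sq, one_pow, one_mul] at h1
  exact h1

end Cfsg.Agent.H344.RR.HSF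
end

-- part: H344/RR/HSRow
section
/-!
# S3509: the row of the Higman-Sims group (helper344)

Counting on an orbit of `N ≅ HS` of length at least 82.
-/

set_option autoImplicit false
set_option linter.unusedSectionVars false

namespace Cfsg.Agent.H344.RR.HSF

open Cfsg.Agent.HN.Pres Cfsg.Agent.HN.HS100 Cfsg.Agent.HN.P1408 Cfsg.Agent.HN.H0Basic Cfsg.Agent.HN.AutBound
open Cfsg.Agent.SporadicA.PermTab Cfsg.Agent.H106.RC
open Equiv Subgroup MulAction

section

variable {G Ω : Type*} [Group G] [Finite G] [MulAction G Ω] [Finite Ω] {N : Subgroup G} [hN : N.Normal]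
  (hS : Cfsg.Spor.IsoHS N)

/-- the data -/
structure Rho (N : Subgroup G) (ρ : G →* Perm (Fin 100)) : Prop where
  inj : Function.Injective ρ
  aut : ∀ g, ρ g ∈ autG 100 adjA
  mem : ∀ g, ρ g ∈ Q ↔ g ∈ N
  surj : ∀ q ∈ Q, ∃ n ∈ N, ρ n = q

include hS

theorem exists_Rho (hC : centralizer (N : Set G) = ⊥) : ∃ ρ : G →* Perm (Fin 100), Rho N ρ := by
  obtain ⟨f⟩ := hS
  obtain ⟨⟨f'⟩, -⟩ := Cfsg.Agent.HN.AutHS.nonempty_Q
  let e : N ≃* Q := f.trans f'.symm
  obtain ⟨ρ, h1, h2, h3, h4⟩ := exists_rho e hC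
  refine ⟨ρ, h1, h2, h3, fun q hq => ?_⟩
  obtain ⟨n, hn⟩ := e.surjective ⟨q, hq⟩
  exact ⟨n, n.2, by rw [h4, hn]⟩

theorem card_inf {x : G} (hx : x ∈ N) : Nat.card ↥(N ⊓ centralizer ({x} : Set G)) =
    Nat.card (centralizer ({(⟨x, hx⟩ : N)} : Set N)) := by
  refine Nat.card_congr ⟨fun y => ⟨⟨y, y.2.1⟩, ?_⟩, fun y => ⟨y.1, y.1.2, ?_⟩, fun y => rfl, fun y => rfl⟩
  · rw [mem_centralizer_singleton_iff]
    exact Subtype.ext (mem_centralizer_singleton_iff.1 y.2.2)
  · have := mem_centralizer_singleton_iff.1 y.2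
    exact mem_centralizer_singleton_iff.2 (congrArg Subtype.val this)

theorem card7 {x : G} (hx : x ∈ N) (h7 : x ^ 7 = 1) (h1 : x ≠ 1) : Nat.card ↥(N ⊓ centralizer ({x} : Set G)) = 7 := by
  have : Fact (Nat.Prime 7) := ⟨by norm_num⟩
  rw [card_inf hS hx]
  exact Cfsg.Agent.H904.HSIso.card_seven hS (orderOf_eq_prime (Subtype.ext h7) fun h => h1 (congrArg Subtype.val h))

theorem card11 {x : G} (hx : x ∈ N) (h7 : x ^ 11 = 1) (h1 : x ≠ 1) :
    Nat.card ↥(N ⊓ centralizer ({x} : Set G)) = 11 := by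
  have : Fact (Nat.Prime 11) := ⟨by norm_num⟩
  rw [card_inf hS hx]
  exact Cfsg.Agent.H904.HSIso.card_eleven hS (orderOf_eq_prime (Subtype.ext h7) fun h => h1 (congrArg Subtype.val h))

variable {ρ : G →* Perm (Fin 100)} (hR : Rho N ρ)
include hR

/-- an involution inverting an element of order `r` -/
theorem FR (ω : Ω) {t : G} (h2 : t * t = 1) {r : ℕ} (hr : r.Prime) (hr2 : r ≠ 2) (h : InvR r (ρ t)) :
    ∃ y ∈ N, ∃ c ∈ N, y = t * (c * t * c⁻¹) ∧ y ≠ 1 ∧ y ^ r = 1 ∧ r * Fo N ω t ≤ No N ω + (r - 1) * Fo N ω y := by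
  obtain ⟨c', hc', g1, g2⟩ := h
  obtain ⟨c, hc, rfl⟩ := hR.surj c' hc'
  set w := t * (c * t * c⁻¹) with hw
  have hwρ : ρ w = ρ t * (ρ c * ρ t * (ρ c)⁻¹) := by rw [hw]; simp only [map_mul, map_inv]
  rw [← hwρ] at g1 g2
  have hwN : w ∈ N := (hR.mem w).1 (mem_of_odd (hR.aut w) (hr.odd_of_ne_two hr2) g2)
  have hw1 : w ≠ 1 := fun h => g1 (by rw [h, map_one])
  have hwr : w ^ r = 1 := hR.inj (by rw [map_pow, g2, map_one])
  have hti : t⁻¹ = t := inv_eq_of_mul_eq_one_left h2
  have hconj : t * w * t⁻¹ = w ^ (r - 1) := by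
    have h3 : w ^ (r - 1) = w⁻¹ := by
      rw [eq_inv_iff_mul_eq_one, ← pow_succ, Nat.sub_add_cancel hr.one_le, hwr]
    rw [h3, hw]
    have h4 : (t * (c * t * c⁻¹))⁻¹ = c * t⁻¹ * c⁻¹ * t⁻¹ := by group
    have h5 : t * (t * (c * t * c⁻¹)) * t⁻¹ = (t * t) * (c * t * c⁻¹) * t⁻¹ := by group
    rw [h4, h5, h2, one_mul, hti]
  have hm : ((r - 1 : ℕ) : ZMod r) ≠ 1 := by
    rw [Nat.cast_sub hr.one_le, ZMod.natCast_self, Nat.cast_one, zero_sub]
    intro h
    have : Fact r.Prime := ⟨hr⟩
    have : Fact (2 < r) := ⟨lt_of_le_of_ne hr.two_le (Ne.symm hr2)⟩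
    exact ZMod.neg_one_ne_one h
  exact ⟨w, hwN, c, hc, rfl, hw1, hwr, fo_frob N ω hwN hr hwr hconj hm⟩

omit hS in
/-- elements of odd order are in `N` -/
theorem mem_N_of_odd {x : G} {m : ℕ} (hm : Odd m) (h : x ^ m = 1) : x ∈ N :=
  (hR.mem x).1 (mem_of_odd (hR.aut x) hm (by rw [← map_pow, h, map_one]))

/-- no element of `N` of order 30 -/
theorem no30 {t x y : G} (ht : t ∈ N) (hx : x ∈ N) (hy : y ∈ N) (h2 : t ^ 2 = 1) (t1 : t ≠ 1) (h3 : x ^ 3 = 1) (x1 : x ≠ 1)
    (h5 : y ^ 5 = 1) (y1 : y ≠ 1) (htx : t * x = x * t) (hty : t * y = y * t) (hxy : x * y = y * x) : False := by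
  obtain ⟨f⟩ := hS
  have : Fact (Nat.Prime 2) := ⟨by norm_num⟩
  have : Fact (Nat.Prime 3) := ⟨by norm_num⟩
  have : Fact (Nat.Prime 5) := ⟨by norm_num⟩
  have o2 : orderOf t = 2 := orderOf_eq_prime h2 t1
  have o3 : orderOf x = 3 := orderOf_eq_prime h3 x1
  have o5 : orderOf y = 5 := orderOf_eq_prime h5 y1
  have c1 : Commute t x := htx
  have o6 : orderOf (t * x) = 6 := by
    rw [c1.orderOf_mul_eq_mul_orderOf_of_coprime (by rw [o2, o3]; norm_num), o2, o3]
  have c2 : Commute (t * x) y := (show Commute t y from hty).mul_left hxy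
  have o30 : orderOf (t * x * y) = 30 := by
    rw [c2.orderOf_mul_eq_mul_orderOf_of_coprime (by rw [o6, o5]; norm_num), o6, o5]
  have hm : t * x * y ∈ N := mul_mem (mul_mem ht hx) hy
  have h6 : orderOf (f ⟨t * x * y, hm⟩) = 30 := by
    rw [MulEquiv.orderOf_eq, ← o30]
    exact Subgroup.orderOf_mk _ _
  have h7 := Cfsg.Agent.H536.TC.orders_hs (f ⟨t * x * y, hm⟩)
  rw [h6] at h7
  revert h7
  decide

end

/-! ### the row -/

/-- the sum over the members of the cover of order `p` -/
noncomputable def Tp {G Ω ι : Type*} [Group G] [MulAction G Ω] [Fintype ι] (N : Subgroup G) (ω : Ω) (x : ι → G)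
    (r : ι → ℕ) (p : ℕ) : ℕ := ∑ i, if r i = p then Fo N ω (x i) else 0

theorem Tp_eq {G Ω ι : Type*} [Group G] [MulAction G Ω] [Fintype ι] (N : Subgroup G) (ω : Ω) {x : ι → G}
    {r : ι → ℕ} (hr : Function.Injective r) (i : ι) : Tp N ω x r (r i) = Fo N ω (x i) := by
  classical
  unfold Tp
  rw [Finset.sum_eq_single i]
  · rw [if_pos rfl]
  · intro j _ hj
    rw [if_neg fun h => hj (hr h)]
  · intro h
    exact absurd (Finset.mem_univ i) h

theorem Tp_zero {G Ω ι : Type*} [Group G] [MulAction G Ω] [Fintype ι] (N : Subgroup G) (ω : Ω) {x : ι → G}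
    {r : ι → ℕ} {p : ℕ} (h : ∀ i, r i ≠ p) : Tp N ω x r p = 0 := by
  unfold Tp
  exact Finset.sum_eq_zero fun i _ => if_neg (h i)

theorem sum_Tp {G Ω ι : Type*} [Group G] [MulAction G Ω] [Fintype ι] (N : Subgroup G) (ω : Ω) {x : ι → G}
    {r : ι → ℕ} (P : Finset ℕ) (h : ∀ i, r i ∈ P) : ∑ i, Fo N ω (x i) = ∑ p ∈ P, Tp N ω x r p := by
  classical
  unfold Tp
  rw [Finset.sum_comm]
  refine Finset.sum_congr rfl fun i _ => ?_
  rw [Finset.sum_ite_eq, if_pos (h i)]

end Cfsg.Agent.H344.RR.HSF
end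

-- part: H344/RR/FixT2
section
/-!
# Regular cycles (S3509): fixed points modulo primes (helper344)

* `fo_mod` : `x y = y x`, `x ∈ N`, `x ^ p = 1`: the number of common fixed points is `F(y) mod p`;
* `fo_sylow` : `x ∈ N` generates a Sylow `p`-subgroup of order `p`: `F(x) = 0` or `p F(x) ∣ |N_N(⟨x⟩)|`;
* `cov_union` : a cover by three elements with overlap.
-/

set_option autoImplicit false
set_option linter.unusedSectionVars false
set_option linter.unusedVariables false
open Cfsg

namespace Cfsg.Agent.H344.RR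

open MulAction Subgroup Cfsg.Agent.H106.RC

variable {G Ω : Type*} [Group G] [MulAction G Ω] [Finite Ω] (N : Subgroup G)

theorem ncard_fix_mod {p : ℕ} (hp : p.Prime) {x : G} (hx : x ^ p = 1) (A : Set Ω) (hA : ∀ u ∈ A, x • u ∈ A) :
    {u | u ∈ A ∧ x • u = u}.ncard ≡ A.ncard [MOD p] := by
  classical
  have : Fact p.Prime := ⟨hp⟩
  have := Fintype.ofFinite A
  let f : Function.End A := fun u => ⟨x • (u : Ω), hA u u.2⟩
  have hpow : ∀ (k : ℕ) (u : A), ((f ^ k) u : Ω) = x ^ k • (u : Ω) := by
    intro k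
    induction k with
    | zero => intro u; rw [pow_zero, pow_zero, one_smul]; rfl
    | succ k ih =>
      intro u
      rw [pow_succ, pow_succ, mul_smul]
      exact ih (f u)
  have hf : f ^ p ^ 1 = 1 := by
    funext u
    apply Subtype.ext
    rw [hpow, pow_one, hx, one_smul]
    rfl
  have h1 := Equiv.Perm.card_fixedPoints_modEq hf
  have h2 : {u | u ∈ A ∧ x • u = u}.ncard = Fintype.card (Function.fixedPoints f) := by
    rw [← Nat.card_coe_set_eq, ← Nat.card_eq_fintype_card]
    refine Nat.card_congr ⟨fun u => ⟨⟨u.1, u.2.1⟩, Subtype.ext u.2.2⟩, fun u => ⟨u.1.1, u.1.2, congrArg Subtype.val u.2⟩,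
      fun u => rfl, fun u => rfl⟩
  have h3 : A.ncard = Fintype.card A := by rw [← Nat.card_coe_set_eq, Nat.card_eq_fintype_card]
  rw [h2, h3]
  exact h1.symm

/-- the number of common fixed points modulo `p` -/
theorem fo_mod (ω : Ω) {p : ℕ} (hp : p.Prime) {x y : G} (hxN : x ∈ N) (hx : x ^ p = 1) (hxy : x * y = y * x) :
    (Fs N ω y ∩ Fs N ω x).ncard ≡ Fo N ω y [MOD p] := by
  have h1 := ncard_fix_mod hp hx (Fs N ω y) fun u hu => ⟨zpow_mem_orbit N hxN hu.1, by
    rw [← mul_smul, ← hxy, mul_smul, hu.2]⟩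
  have h2 : {u | u ∈ Fs N ω y ∧ x • u = u} = Fs N ω y ∩ Fs N ω x := by
    ext u
    exact ⟨fun h => ⟨h.1, h.1.1, h.2⟩, fun h => ⟨h.1, h.2.2⟩⟩
  rwa [h2] at h1

theorem fo_modEq (ω : Ω) {p : ℕ} (hp : p.Prime) {x : G} (hxN : x ∈ N) (hx : x ^ p = 1) :
    Fo N ω x ≡ No N ω [MOD p] :=
  ncard_fix_mod hp hx (orbit N ω) fun u hu => zpow_mem_orbit N hxN hu

/-- **Sylow subgroups of prime order** -/
theorem fo_sylow [Finite G] (ω : Ω) {p : ℕ} (hp : p.Prime) {x : G} (hxN : x ∈ N) (hxo : orderOf x = p)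
    (h2 : ¬ p ^ 2 ∣ Nat.card N) : Fo N ω x = 0 ∨
      p * Fo N ω x ∣ Nat.card (normalizer ((zpowers (⟨x, hxN⟩ : N) : Subgroup N) : Set N)) := by
  by_cases hne : ∃ w₀ ∈ orbit N ω, x • w₀ = w₀
  swap
  · left
    unfold Fo
    rw [Set.ncard_eq_zero (Set.toFinite _)]
    exact Set.eq_empty_of_forall_notMem fun w hw => hne ⟨w, hw.1, hw.2⟩
  obtain ⟨w₀, hw₀, hx₀⟩ := hne
  right
  have horb : orbit N w₀ = orbit N ω := orbit_eq_iff.2 hw₀
  have hxH : (⟨x, hxN⟩ : N) ∈ stabilizer N w₀ := hx₀
  have h1 := Cfsg.Agent.H715.Fpr.fix_prime_mem_dvd hp h2 hxH (by rw [← hxo]; exact Subgroup.orderOf_mk x hxN)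
  have h3 : Fo N ω x = Nat.card (fixedBy (N ⧸ stabilizer N w₀) (⟨x, hxN⟩ : N)) := by
    unfold Fo
    rw [← Nat.card_coe_set_eq]
    let e := orbitEquivQuotientStabilizer N w₀
    have hq : ∀ (y : N) (q : N ⧸ stabilizer N w₀), ((e.symm (y • q) : orbit N w₀) : Ω) = y • ((e.symm q : orbit N w₀) : Ω) := by
      intro y q
      obtain ⟨g, rfl⟩ := QuotientGroup.mk_surjective q
      rw [show y • (g : N ⧸ stabilizer N w₀) = ((y * g : N) : N ⧸ stabilizer N w₀) from rfl]
      rw [orbitEquivQuotientStabilizer_symm_apply, orbitEquivQuotientStabilizer_symm_apply, mul_smul]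
    symm
    refine Nat.card_congr (Equiv.ofBijective (fun q : fixedBy (N ⧸ stabilizer N w₀) (⟨x, hxN⟩ : N) =>
      (⟨((e.symm q.1 : orbit N w₀) : Ω), by rw [← horb]; exact (e.symm q.1).2, ?_⟩ : Fs N ω x)) ⟨?_, ?_⟩)
    · have h4 := hq ⟨x, hxN⟩ q.1
      rw [show (⟨x, hxN⟩ : N) • q.1 = q.1 from q.2] at h4
      exact h4.symm
    · intro a b hab
      have h5 : ((e.symm a.1 : orbit N w₀) : Ω) = ((e.symm b.1 : orbit N w₀) : Ω) :=
        congrArg (fun w : Fs N ω x => (w : Ω)) hab
      exact Subtype.ext (e.symm.injective (Subtype.ext h5))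
    · rintro ⟨w, hw, hxw⟩
      rw [← horb] at hw
      refine ⟨⟨e ⟨w, hw⟩, ?_⟩, ?_⟩
      · change (⟨x, hxN⟩ : N) • e ⟨w, hw⟩ = e ⟨w, hw⟩
        apply e.symm.injective
        apply Subtype.ext
        rw [hq, e.symm_apply_apply]
        exact hxw
      · apply Subtype.ext
        change ((e.symm (e ⟨w, hw⟩) : orbit N w₀) : Ω) = w
        rw [e.symm_apply_apply]
  rw [h3]
  exact h1

/-- a cover by three elements -/
theorem cov_union (ω : Ω) {A B C : Set Ω} (h : orbit N ω ⊆ A ∪ (B ∪ C)) :
    No N ω + (B ∩ C).ncard ≤ A.ncard + B.ncard + C.ncard := by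
  have h1 := Set.ncard_le_ncard h (Set.toFinite _)
  have h2 := Set.ncard_union_le A (B ∪ C)
  have h3 := Set.ncard_union_add_ncard_inter B C (Set.toFinite _) (Set.toFinite _)
  unfold No
  omega

end Cfsg.Agent.H344.RR
end

-- part: H344/RR/HSFin
section
/-!
# S3509: the row of the Higman-Sims group (helper344), end

* `no_cov'` : no cover in an environment with `N ≅ HS`;
* `noCov_hs`, `rc_hs`.
-/

set_option autoImplicit false
set_option linter.unusedSectionVars false

namespace Cfsg.Agent.H344.RR.HSF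

open Cfsg.Agent.HN.Pres Cfsg.Agent.HN.HS100 Cfsg.Agent.HN.P1408 Cfsg.Agent.HN.H0Basic Cfsg.Agent.HN.AutBound
open Cfsg.Agent.SporadicA.PermTab Cfsg.Agent.H106.RC
open Equiv Subgroup MulAction

/-! ### the possible lengths of orbits -/

theorem okp11 {n : ℕ} (h : Cfsg.Agent.H536.TC.okp 11 55 n = true) : n % 11 ≤ 5 := by
  unfold Cfsg.Agent.H536.TC.okp at h
  rw [Bool.or_eq_true, beq_iff_eq, List.any_eq_true] at h
  rcases h with h | ⟨f, hf, h⟩
  · omega
  · rw [Bool.and_eq_true, Bool.and_eq_true, beq_iff_eq] at h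
    have h1 := List.mem_range.1 hf
    have h2 : n % 11 = f % 11 := by simpa using h.2
    omega

def smallChk (n : ℕ) : Bool := Nat.blt n 25 || (44352000 % n != 0 || (!(Cfsg.Agent.H536.TC.okp 7 42 n) ||
  (!(Cfsg.Agent.H536.TC.okp 11 55 n) || [44, 45, 55, 56, 66, 77].contains n)))

theorem smallChk_all : ((List.range 82).all smallChk) = true := by decide +kernel

theorem small (n : ℕ) (hn : n < 82) (h25 : 25 ≤ n) (hd : 44352000 % n = 0) (h7 : Cfsg.Agent.H536.TC.okp 7 42 n = true)
    (h11 : Cfsg.Agent.H536.TC.okp 11 55 n = true) : n = 44 ∨ n = 45 ∨ n = 55 ∨ n = 56 ∨ n = 66 ∨ n = 77 := by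
  have h := List.all_eq_true.1 smallChk_all n (List.mem_range.2 hn)
  unfold smallChk at h
  rw [h7, h11, Bool.or_eq_true, Bool.or_eq_true, Nat.blt_eq] at h
  rcases h with h | h | h
  · omega
  · rw [bne_iff_ne] at h; exact absurd hd h
  · simpa using h

section

variable {G Ω : Type*} [Group G] [Finite G] [MulAction G Ω] [Finite Ω] {N : Subgroup G}

theorem le25 (hE : Env G Ω N) (hS : Cfsg.Spor.IsoHS N) (ω : Ω) : 25 ≤ No N ω := by
  have hsim := hE.simple
  have hf : FaithfulSMul N (orbit N ω) := by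
    have hk : (MulAction.toPermHom N (orbit N ω)).ker = ⊥ := by
      rcases hsim.eq_bot_or_eq_top_of_normal (MulAction.toPermHom N (orbit N ω)).ker inferInstance with h | h
      · exact h
      · exfalso
        refine hE.nofix ω fun n hn => ?_
        have h1 : (⟨n, hn⟩ : N) ∈ (MulAction.toPermHom N (orbit N ω)).ker := by rw [h]; trivial
        have h2 := Equiv.congr_fun (MonoidHom.mem_ker.1 h1) ⟨ω, mem_orbit_self ω⟩
        exact congrArg Subtype.val h2
    refine ⟨fun {a b} h => ?_⟩
    have h1 : MulAction.toPermHom N (orbit N ω) a = MulAction.toPermHom N (orbit N ω) b := Equiv.ext h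
    exact (MonoidHom.ker_eq_bot_iff _).1 hk h1
  have h1 := Cfsg.Agent.H904.TwoHS.le_card (X := orbit N ω) hS
  rwa [Nat.card_coe_set_eq] at h1

theorem card_hs (hS : Cfsg.Spor.IsoHS N) : Nat.card N = 44352000 := Cfsg.Agent.KFacts.HS.card hS

theorem lengths (hE : Env G Ω N) (hS : Cfsg.Spor.IsoHS N) (ω : Ω) :
    (82 ≤ No N ω ∨ No N ω = 44 ∨ No N ω = 45 ∨ No N ω = 55 ∨ No N ω = 56 ∨ No N ω = 66 ∨ No N ω = 77) ∧
      No N ω % 11 ≤ 5 := by
  have hi : (stabilizer N ω).index = No N ω := index_stabilizer N ω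
  have hN := card_hs hS
  have h7 := Cfsg.Agent.H536.TC.okp_index (p := 7) (N := 42) (by norm_num) (by rw [hN]; norm_num) (by rw [hN]; norm_num)
    (fun R hR => (Cfsg.Agent.H904.TwoHS.seven hS R hR).2) (stabilizer N ω)
  have h11 := Cfsg.Agent.H536.TC.okp_index (p := 11) (N := 55) (by norm_num) (by rw [hN]; norm_num) (by rw [hN]; norm_num)
    (fun R hR => by
      obtain ⟨-, -, H⟩ := Cfsg.Agent.H904.TwoHS.eleven hS
      exact (H R hR).2) (stabilizer N ω)
  rw [hi] at h7 h11
  refine ⟨?_, okp11 h11⟩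
  by_cases hlt : 82 ≤ No N ω
  · exact Or.inl hlt
  · right
    refine small _ (by omega) (le25 hE hS ω) ?_ h7 h11
    rw [← hN, ← hi]
    exact Nat.mod_eq_zero_of_dvd (Subgroup.index_dvd_card _)

end

section

variable {G Ω : Type*} [Group G] [Finite G] [MulAction G Ω] [Finite Ω] {N : Subgroup G} [hN : N.Normal]
  (hS : Cfsg.Spor.IsoHS N)

include hS

theorem E7 (ω : Ω) {x : G} (hx : x ∈ N) (h7 : x ^ 7 = 1) (h1 : x ≠ 1) : Fo N ω x = No N ω % 7 := by
  have : Fact (Nat.Prime 7) := ⟨by norm_num⟩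
  have ho : orderOf x = 7 := orderOf_eq_prime h7 h1
  have hm := fo_modEq N ω (by norm_num : (7).Prime) hx h7
  have hc := card_hs hS
  have hR : Nat.card (zpowers (⟨x, hx⟩ : N)) = 7 := by rw [Nat.card_zpowers, Subgroup.orderOf_mk, ho]
  have hle : Fo N ω x ≤ 6 := by
    rcases fo_sylow N ω (by norm_num : (7).Prime) hx ho (by rw [hc]; norm_num) with h | h
    · omega
    · rw [(Cfsg.Agent.H904.TwoHS.seven hS _ hR).2] at h
      have := Nat.le_of_dvd (by norm_num) h
      omega
  unfold Nat.ModEq at hm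
  omega

theorem E11 (ω : Ω) {x : G} (hx : x ∈ N) (h7 : x ^ 11 = 1) (h1 : x ≠ 1) : Fo N ω x = No N ω % 11 := by
  have : Fact (Nat.Prime 11) := ⟨by norm_num⟩
  have ho : orderOf x = 11 := orderOf_eq_prime h7 h1
  have hm := fo_modEq N ω (by norm_num : (11).Prime) hx h7
  have hc := card_hs hS
  have hR : Nat.card (zpowers (⟨x, hx⟩ : N)) = 11 := by rw [Nat.card_zpowers, Subgroup.orderOf_mk, ho]
  have hle : Fo N ω x ≤ 5 := by
    rcases fo_sylow N ω (by norm_num : (11).Prime) hx ho (by rw [hc]; norm_num) with h | h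
    · omega
    · obtain ⟨-, -, H⟩ := Cfsg.Agent.H904.TwoHS.eleven hS
      rw [(H _ hR).2] at h
      have := Nat.le_of_dvd (by norm_num) h
      omega
  unfold Nat.ModEq at hm
  omega

variable {ρ : G →* Perm (Fin 100)} (hR : Rho N ρ)
include hR

theorem E3 (ω : Ω) {x : G} (hx : x ∈ N) (h3 : x ^ 3 = 1) (h1 : x ≠ 1) : 7 * Fo N ω x ≤ No N ω + 6 * (No N ω % 7) := by
  obtain ⟨y', hy', g1, g2, g3⟩ := three_spec ((hR.mem x).2 hx) (by rw [← map_pow, h3, map_one])
    fun h => h1 (hR.inj (by rw [h, map_one]))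
  obtain ⟨y, hy, rfl⟩ := hR.surj y' hy'
  have h7 : y ^ 7 = 1 := hR.inj (by rw [map_pow, g2, map_one])
  have hy1 : y ≠ 1 := fun h => g1 (by rw [h, map_one])
  have hxy : x * y * x⁻¹ = y ^ 2 := hR.inj (by rw [map_mul, map_mul, map_inv, map_pow, g3])
  have h4 := fo_frob N ω hy (r := 7) (m := 2) (by norm_num) h7 hxy (by decide)
  have h5 := E7 hS ω hy h7 hy1
  rw [h5] at h4
  omega

theorem E5 (ω : Ω) {x : G} (hx : x ∈ N) (h3 : x ^ 5 = 1) (h1 : x ≠ 1) :
    2 * Fo N ω x ≤ No N ω + No N ω % 7 ∨ 2 * Fo N ω x ≤ No N ω + No N ω % 11 := by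
  obtain ⟨c', hc', g1, g2⟩ := five_spec ((hR.mem x).2 hx) (by rw [← map_pow, h3, map_one])
    fun h => h1 (hR.inj (by rw [h, map_one]))
  obtain ⟨c, hc, rfl⟩ := hR.surj c' hc'
  set w := x * (c * x * c⁻¹) with hw
  have hwρ : ρ w = ρ x * (ρ c * ρ x * (ρ c)⁻¹) := by rw [hw]; simp only [map_mul, map_inv]
  rw [← hwρ] at g1 g2
  have hwN : w ∈ N := mul_mem hx (mul_mem (mul_mem hc hx) (inv_mem hc))
  have hw1 : w ≠ 1 := fun h => g1 (by rw [h, map_one])
  have h4 := fo_mul N ω (x := x) hc
  rw [← hw] at h4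
  rcases g2 with g2 | g2
  · have h5 := E7 hS ω hwN (hR.inj (by rw [map_pow, g2, map_one])) hw1
    left; omega
  · have h5 := E11 hS ω hwN (hR.inj (by rw [map_pow, g2, map_one])) hw1
    right; omega

/-- **involutions** -/
theorem E2 (ω : Ω) {t : G} (h2 : t * t = 1) (h1 : t ≠ 1) :
    (t ∈ N ∧ ∃ u, 5 * Fo N ω t ≤ No N ω + 4 * u ∧ 11 * u ≤ No N ω + 10 * (No N ω % 11)) ∨
    7 * Fo N ω t ≤ No N ω + 6 * (No N ω % 7) ∨
    ((∃ u, 3 * Fo N ω t ≤ No N ω + 2 * u ∧ 7 * u ≤ No N ω + 6 * (No N ω % 7)) ∧ ∃ g ∈ autG 100 adjA, ρ t = g * Z * g⁻¹) := by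
  rcases inv_spec (hR.aut t) (by rw [← map_mul, h2, map_one]) (fun h => h1 (hR.inj (by rw [h, map_one]))) with h | h | h
  · left
    obtain ⟨h0, c', hc', w', hw', g1, g2, g3, g4, g5⟩ := h
    have htN := (hR.mem t).1 h0
    refine ⟨htN, ?_⟩
    obtain ⟨c, hc, rfl⟩ := hR.surj c' hc'
    obtain ⟨w, hw, rfl⟩ := hR.surj w' hw'
    set y := t * (c * t * c⁻¹) with hy
    have hyρ : ρ y = ρ t * (ρ c * ρ t * (ρ c)⁻¹) := by rw [hy]; simp only [map_mul, map_inv]
    rw [← hyρ] at g1 g2 g5
    have hyN : y ∈ N := mul_mem htN (mul_mem (mul_mem hc htN) (inv_mem hc))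
    have hy5 : y ^ 5 = 1 := hR.inj (by rw [map_pow, g2, map_one])
    have hti : t⁻¹ = t := inv_eq_of_mul_eq_one_left h2
    have hconj : t * y * t⁻¹ = y ^ 4 := by
      have h3 : y ^ 4 = y⁻¹ := by rw [eq_inv_iff_mul_eq_one, ← pow_succ, hy5]
      rw [h3, hy]
      have h4 : (t * (c * t * c⁻¹))⁻¹ = c * t⁻¹ * c⁻¹ * t⁻¹ := by group
      have h5 : t * (t * (c * t * c⁻¹)) * t⁻¹ = (t * t) * (c * t * c⁻¹) * t⁻¹ := by group
      rw [h4, h5, h2, one_mul, hti]
    have h6 := fo_frob N ω hyN (r := 5) (m := 4) (by norm_num) hy5 hconj (by decide)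
    have hw11 : w ^ 11 = 1 := hR.inj (by rw [map_pow, g4, map_one])
    have hyw : y * w * y⁻¹ = w ^ 9 := hR.inj (by rw [map_mul, map_mul, map_inv, map_pow, g5])
    have h7 := fo_frob N ω hw (r := 11) (m := 9) (by norm_num) hw11 hyw (by decide)
    have h8 := E11 hS ω hw hw11 (fun h => g3 (by rw [h, map_one]))
    rw [h8] at h7
    exact ⟨Fo N ω y, by omega, by omega⟩
  · right; left
    obtain ⟨y, hyN, c, hc, hy, hy1, hyr, h3⟩ := FR hS hR ω h2 (by norm_num) (by norm_num) h
    have h4 := E7 hS ω hyN hyr hy1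
    rw [h4] at h3
    omega
  · right; right
    obtain ⟨h, hg⟩ := h
    refine ⟨?_, hg⟩
    obtain ⟨y, hyN, c, hc, hy, hy1, hyr, h3⟩ := FR hS hR ω h2 (by norm_num) (by norm_num) h
    exact ⟨Fo N ω y, by omega, E3 hS hR ω hyN hyr hy1⟩

end

/-- **the counting argument** -/
theorem no_cov' {G Ω : Type*} [Group G] [Finite G] [MulAction G Ω] [Finite Ω] [Nonempty Ω] {N : Subgroup G}
    (hE : Env G Ω N) (hS : Cfsg.Spor.IsoHS N)
    {ι : Type*} [Finite ι] {x : ι → G} {r : ι → ℕ} (hx : PF x r) (hc : Cov Ω x) : False := by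
  classical
  have hN := hE.norm
  have := Fintype.ofFinite ι
  obtain ⟨ρ, hR⟩ := exists_Rho hS hE.cent
  obtain ⟨ω⟩ := ‹Nonempty Ω›
  obtain ⟨hn, hn11⟩ := lengths hE hS ω
  -- the primes
  have hord : ∀ i, orderOf (x i) = r i := fun i => by
    have : Fact (r i).Prime := ⟨hx.prime i⟩
    exact orderOf_eq_prime (hx.pow i) (hx.ne i)
  have hP : ∀ i, r i ∈ ({2, 3, 5, 7, 11} : Finset ℕ) := by
    intro i
    have h1 : orderOf (ρ (x i)) = r i := by rw [orderOf_injective ρ hR.inj, hord]
    have h2 : r i ∣ 88704000 := by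
      rw [← h1, ← card_autG, ← Subgroup.orderOf_mk (ρ (x i)) (hR.aut (x i))]
      exact _root_.orderOf_dvd_natCard _
    have h3 : (88704000 : ℕ) = 2 ^ 10 * (3 ^ 2 * (5 ^ 3 * (7 * 11))) := by norm_num
    rw [h3] at h2
    have hp := hx.prime i
    simp only [Finset.mem_insert, Finset.mem_singleton]
    rcases (hp.dvd_mul.1 h2) with h4 | h4
    · exact Or.inl ((Nat.prime_dvd_prime_iff_eq hp Nat.prime_two).1 (hp.dvd_of_dvd_pow h4))
    rcases (hp.dvd_mul.1 h4) with h4 | h4
    · exact Or.inr (Or.inl ((Nat.prime_dvd_prime_iff_eq hp Nat.prime_three).1 (hp.dvd_of_dvd_pow h4)))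
    rcases (hp.dvd_mul.1 h4) with h4 | h4
    · exact Or.inr (Or.inr (Or.inl ((Nat.prime_dvd_prime_iff_eq hp Nat.prime_five).1 (hp.dvd_of_dvd_pow h4))))
    rcases (hp.dvd_mul.1 h4) with h4 | h4
    · exact Or.inr (Or.inr (Or.inr (Or.inl ((Nat.prime_dvd_prime_iff_eq hp (by norm_num)).1 h4))))
    · exact Or.inr (Or.inr (Or.inr (Or.inr ((Nat.prime_dvd_prime_iff_eq hp (by norm_num)).1 h4))))
  have hodd : ∀ i, r i ≠ 2 → x i ∈ N := fun i hi =>
    mem_N_of_odd hR ((hx.prime i).odd_of_ne_two hi) (hx.pow i)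
  have hsum := cov_le N hc ω
  rw [sum_Tp N ω _ hP] at hsum
  have e5 : ∑ p ∈ ({2, 3, 5, 7, 11} : Finset ℕ), Tp N ω x r p =
      Tp N ω x r 2 + (Tp N ω x r 3 + (Tp N ω x r 5 + (Tp N ω x r 7 + Tp N ω x r 11))) := by
    rw [Finset.sum_insert (by decide), Finset.sum_insert (by decide), Finset.sum_insert (by decide),
      Finset.sum_insert (by decide), Finset.sum_singleton]
  rw [e5] at hsum
  -- bounds
  have b3 : 7 * Tp N ω x r 3 ≤ No N ω + 6 * (No N ω % 7) := by
    by_cases h : ∃ i, r i = 3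
    · obtain ⟨i, hi⟩ := h
      rw [← hi, Tp_eq N ω hx.inj i]
      exact E3 hS hR ω (hodd i (by omega)) (by rw [← hi]; exact hx.pow i) (hx.ne i)
    · push Not at h
      rw [Tp_zero N ω h]; omega
  have b5 : 2 * Tp N ω x r 5 ≤ No N ω + No N ω % 7 ∨ 2 * Tp N ω x r 5 ≤ No N ω + No N ω % 11 := by
    by_cases h : ∃ i, r i = 5
    · obtain ⟨i, hi⟩ := h
      rw [← hi, Tp_eq N ω hx.inj i]
      exact E5 hS hR ω (hodd i (by omega)) (by rw [← hi]; exact hx.pow i) (hx.ne i)
    · push Not at h
      rw [Tp_zero N ω h]; omega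
  have b7 : Tp N ω x r 7 ≤ No N ω % 7 := by
    by_cases h : ∃ i, r i = 7
    · obtain ⟨i, hi⟩ := h
      have := E7 hS ω (hodd i (by omega)) (by rw [← hi]; exact hx.pow i) (hx.ne i)
      rw [← this, ← hi, Tp_eq N ω hx.inj i]
    · push Not at h
      rw [Tp_zero N ω h]; omega
  have b11 : Tp N ω x r 11 ≤ No N ω % 11 := by
    by_cases h : ∃ i, r i = 11
    · obtain ⟨i, hi⟩ := h
      have := E11 hS ω (hodd i (by omega)) (by rw [← hi]; exact hx.pow i) (hx.ne i)
      rw [← this, ← hi, Tp_eq N ω hx.inj i]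
    · push Not at h
      rw [Tp_zero N ω h]; omega
  -- an element of order 7 or 11 commutes with no other element of odd order
  have hexcl : ∀ i, (r i = 7 ∨ r i = 11) → ∀ j, j ≠ i → r j = 2 := by
    intro i hi j hj
    by_contra hj2
    have hcard : Nat.card ↥(N ⊓ centralizer ({x i} : Set G)) = r i := by
      rcases hi with hi | hi
      · rw [hi]; exact card7 hS (hodd i (by omega)) (by rw [← hi]; exact hx.pow i) (hx.ne i)
      · rw [hi]; exact card11 hS (hodd i (by omega)) (by rw [← hi]; exact hx.pow i) (hx.ne i)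
    have hmem : x j ∈ N ⊓ centralizer ({x i} : Set G) :=
      ⟨hodd j hj2, mem_centralizer_singleton_iff.2 (hx.comm j i)⟩
    have h1 : orderOf (x j) ∣ r i := by
      rw [← hcard, ← Subgroup.orderOf_mk (x j) hmem]
      exact _root_.orderOf_dvd_natCard _
    rw [hord] at h1
    exact hj (hx.inj ((Nat.prime_dvd_prime_iff_eq (hx.prime j) (hx.prime i)).1 h1))
  -- the involution
  have b2 : Tp N ω x r 2 = 0 ∨ (∃ i, r i = 2 ∧ x i ∈ N ∧ ∃ u, 5 * Tp N ω x r 2 ≤ No N ω + 4 * u ∧
        11 * u ≤ No N ω + 10 * (No N ω % 11)) ∨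
      (7 * Tp N ω x r 2 ≤ No N ω + 6 * (No N ω % 7) ∧ ∃ i, r i = 2) ∨
      (∃ i, r i = 2 ∧ (∃ u, 3 * Tp N ω x r 2 ≤ No N ω + 2 * u ∧ 7 * u ≤ No N ω + 6 * (No N ω % 7)) ∧
        ∃ g ∈ autG 100 adjA, ρ (x i) = g * Z * g⁻¹) := by
    by_cases h : ∃ i, r i = 2
    · obtain ⟨i, hi⟩ := h
      have h2 : x i * x i = 1 := by rw [← pow_two, ← hi]; exact hx.pow i
      have h3 : Tp N ω x r 2 = Fo N ω (x i) := by rw [← hi, Tp_eq N ω hx.inj i]
      rw [h3]
      right
      rcases E2 hS hR ω h2 (hx.ne i) with ⟨h4, h5⟩ | h4 | ⟨h4, h5⟩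
      · exact Or.inl ⟨i, hi, h4, h5⟩
      · exact Or.inr (Or.inl ⟨h4, i, hi⟩)
      · exact Or.inr (Or.inr ⟨i, hi, h4, h5⟩)
    · push Not at h
      exact Or.inl (Tp_zero N ω h)
  have hb2 : 44 * Tp N ω x r 2 ≤ 21 * No N ω + 352 := by
    rcases b2 with h | ⟨-, -, -, u, h, h'⟩ | ⟨h, -⟩ | ⟨-, -, ⟨u, h, h'⟩, -⟩ <;> omega
  by_cases h7 : ∃ i, r i = 7
  · obtain ⟨i, hi⟩ := h7
    have z : ∀ p, p ≠ 2 → p ≠ 7 → Tp N ω x r p = 0 := fun p hp hp7 => Tp_zero N ω fun j hj => by
      have hji : j ≠ i := by rintro rfl; omega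
      exact hp (hj.symm.trans (hexcl i (Or.inl hi) j hji))
    rw [z 3 (by norm_num) (by norm_num), z 5 (by norm_num) (by norm_num), z 11 (by norm_num) (by norm_num)] at hsum
    (clear * - hn hsum b7 hb2; omega)
  by_cases h11 : ∃ i, r i = 11
  · obtain ⟨i, hi⟩ := h11
    have z : ∀ p, p ≠ 2 → p ≠ 11 → Tp N ω x r p = 0 := fun p hp hp7 => Tp_zero N ω fun j hj => by
      have hji : j ≠ i := by rintro rfl; omega
      exact hp (hj.symm.trans (hexcl i (Or.inr hi) j hji))
    rw [z 3 (by norm_num) (by norm_num), z 5 (by norm_num) (by norm_num), z 7 (by norm_num) (by norm_num)] at hsum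
    (clear * - hn hsum b11 hb2; omega)
  push Not at h7 h11
  rw [Tp_zero N ω h7, Tp_zero N ω h11] at hsum
  rcases b2 with h | ⟨i, hi, hiN, u, h, h'⟩ | ⟨h, i, hi⟩ | ⟨i, hi, ⟨u, h, h'⟩, g, hg, hgt⟩
  · (clear * - hn hsum b3 b5 h; omega)
  · -- type 2A
    by_cases h3 : ∃ j, r j = 3
    · by_cases h5 : ∃ k, r k = 5
      · obtain ⟨j, hj⟩ := h3
        obtain ⟨k, hk⟩ := h5
        exact no30 hS hR hiN (hodd j (by omega)) (hodd k (by omega)) (by rw [← hi]; exact hx.pow i) (hx.ne i)
          (by rw [← hj]; exact hx.pow j) (hx.ne j) (by rw [← hk]; exact hx.pow k) (hx.ne k) (hx.comm i j) (hx.comm i k)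
          (hx.comm j k)
      · push Not at h5
        rw [Tp_zero N ω h5] at hsum
        (clear * - hn hsum b3 hb2; omega)
    · push Not at h3
      rw [Tp_zero N ω h3] at hsum
      (clear * - hn hsum b5 h h'; omega)
  · -- type 7
    by_cases h55 : No N ω = 55
    swap
    · (clear * - hn hn11 hsum b3 b5 h h55; omega)
    by_cases h3 : ∃ j, r j = 3
    · by_cases h5 : ∃ k, r k = 5
      · obtain ⟨j, hj⟩ := h3
        obtain ⟨k, hk⟩ := h5
        have hjN := hodd j (by omega)
        have hkN := hodd k (by omega)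
        have e3 : Tp N ω x r 3 = Fo N ω (x j) := by rw [← hj, Tp_eq N ω hx.inj j]
        have e5' : Tp N ω x r 5 = Fo N ω (x k) := by rw [← hk, Tp_eq N ω hx.inj k]
        have e2 : Tp N ω x r 2 = Fo N ω (x i) := by rw [← hi, Tp_eq N ω hx.inj i]
        have m3 := fo_modEq N ω (by norm_num : (3).Prime) hjN (by rw [← hj]; exact hx.pow j)
        have m5 := fo_modEq N ω (by norm_num : (5).Prime) hkN (by rw [← hk]; exact hx.pow k)
        have m35 := fo_mod N ω (by norm_num : (5).Prime) hkN (by rw [← hk]; exact hx.pow k) (y := x j) (hx.comm k j)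
        unfold Nat.ModEq at m3 m5 m35
        have hcov : orbit N ω ⊆ Fs N ω (x i) ∪ (Fs N ω (x j) ∪ Fs N ω (x k)) := by
          intro u hu
          obtain ⟨l, hl⟩ := hc u
          have h6 := hP l
          simp only [Finset.mem_insert, Finset.mem_singleton] at h6
          rcases h6 with h6 | h6 | h6 | h6 | h6
          · left; rw [hx.inj (hi.trans h6.symm)]; exact ⟨hu, hl⟩
          · right; left; rw [hx.inj (hj.trans h6.symm)]; exact ⟨hu, hl⟩
          · right; right; rw [hx.inj (hk.trans h6.symm)]; exact ⟨hu, hl⟩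
          · exact absurd h6 (h7 l)
          · exact absurd h6 (h11 l)
        have hun := cov_union N ω hcov
        rw [e3] at b3
        rw [e5'] at b5
        rw [e2] at h
        change No N ω + _ ≤ Fo N ω (x i) + Fo N ω (x j) + Fo N ω (x k) at hun
        (clear * - h h55 b3 b5 m35 hun; omega)
      · push Not at h5
        rw [Tp_zero N ω h5] at hsum
        (clear * - hsum b3 h h55; omega)
    · push Not at h3
      rw [Tp_zero N ω h3] at hsum
      (clear * - hsum b5 h h55; omega)
  · -- type 2C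
    by_cases h5 : ∃ k, r k = 5
    · obtain ⟨k, hk⟩ := h5
      have hkN := hodd k (by omega)
      have hki : k ≠ i := by rintro rfl; omega
      -- the element of order 3, if any
      obtain ⟨s, hsN, hs3, hsk, hsi, hsj⟩ : ∃ s ∈ N, s ^ 3 = 1 ∧ x k * s = s * x k ∧ s * x i = x i * s ∧
          ∀ j, r j = 3 → x j = s := by
        by_cases h3 : ∃ j, r j = 3
        · obtain ⟨j, hj⟩ := h3
          exact ⟨x j, hodd j (by omega), by rw [← hj]; exact hx.pow j, hx.comm k j, hx.comm j i, fun j' hj' => by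
            rw [hx.inj (hj'.trans hj.symm)]⟩
        · push Not at h3
          exact ⟨1, one_mem _, one_pow _, by rw [mul_one, one_mul], by rw [mul_one, one_mul], fun j hj =>
            absurd hj (h3 j)⟩
      obtain ⟨c', hc', g1, g2, g3, g4⟩ := r5_spec hg hgt ((hR.mem _).2 hkN) ((hR.mem _).2 hsN)
        (by rw [← map_pow, ← hk, hx.pow, map_one]) (fun h => hx.ne k (hR.inj (by rw [h, map_one])))
        (by rw [← map_pow, hs3, map_one]) (by rw [← map_mul, ← map_mul, hsk])
        (by rw [← map_mul, ← map_mul, hx.comm]) (by rw [← map_mul, ← map_mul, hsi])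
      obtain ⟨c, hcN, rfl⟩ := hR.surj c' hc'
      have k1 : c * x i = x i * c := hR.inj (by rw [map_mul, map_mul, g1])
      have k2 : c * s = s * c := hR.inj (by rw [map_mul, map_mul, g2])
      set y := x k * (c * x k * c⁻¹) with hy
      have hyρ : ρ y = ρ (x k) * (ρ c * ρ (x k) * (ρ c)⁻¹) := by rw [hy]; simp only [map_mul, map_inv]
      rw [← hyρ] at g3 g4
      have hyN : y ∈ N := mul_mem hkN (mul_mem (mul_mem hcN hkN) (inv_mem hcN))
      have hy3 : y ^ 3 = 1 := hR.inj (by rw [map_pow, g3, map_one])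
      have hy1 : y ≠ 1 := fun h => g4 (by rw [h, map_one])
      have hcc : ∀ j, j ≠ k → c * x j = x j * c := by
        intro j hjk
        have h6 := hP j
        simp only [Finset.mem_insert, Finset.mem_singleton] at h6
        rcases h6 with h6 | h6 | h6 | h6 | h6
        · rw [hx.inj (h6.trans hi.symm)]; exact k1
        · rw [hsj j h6]; exact k2
        · exact absurd (hx.inj (h6.trans hk.symm)) hjk
        · exact absurd h6 (h7 j)
        · exact absurd h6 (h11 j)
      have hcov' := hc.mv k (y := y) (mul_mem (subset_closure ⟨1, fun j _ => by rw [one_mul, mul_one], by group⟩)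
        (subset_closure ⟨c, hcc, rfl⟩))
      have hs' := cov_le N hcov' ω
      have e1 : ∑ j, Fo N ω (Function.update x k y j) = Fo N ω y + ∑ j ∈ Finset.univ.erase k, Fo N ω (x j) := by
        rw [← Finset.add_sum_erase _ _ (Finset.mem_univ k), Function.update_self]
        congr 1
        refine Finset.sum_congr rfl fun j hj => ?_
        rw [Function.update_of_ne (Finset.ne_of_mem_erase hj)]
      have e2 : ∑ j, Fo N ω (x j) = Fo N ω (x k) + ∑ j ∈ Finset.univ.erase k, Fo N ω (x j) :=
        (Finset.add_sum_erase _ _ (Finset.mem_univ k)).symm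
      have e3 : ∑ j, Fo N ω (x j) = Tp N ω x r 2 + (Tp N ω x r 3 + (Fo N ω (x k) + (0 + 0))) := by
        rw [sum_Tp N ω _ hP, e5, Tp_zero N ω h7, Tp_zero N ω h11, ← hk, Tp_eq N ω hx.inj k]
      have e4 := E3 hS hR ω hyN hy3 hy1
      rw [e1] at hs'
      (clear * - hn b3 h h' hs' e2 e3 e4; omega)
    · push Not at h5
      rw [Tp_zero N ω h5] at hsum
      (clear * - hn hsum b3 hb2; omega)

/-! ### The row -/

theorem isoHS_congr {A B : Type*} [Group A] [Group B] (e : A ≃* B) (h : Cfsg.Spor.IsoHS B) : Cfsg.Spor.IsoHS A := by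
  obtain ⟨f⟩ := h
  exact ⟨e.trans f⟩

/-- **no covers** -/
theorem noCov_hs {S : Type} [Group S] (h : Cfsg.Spor.IsoHS S) : NoCov S := by
  intro G _ _ Ω _ _ _ N hE e ι _ x r hx hc _
  exact no_cov' hE (isoHS_congr e h) hx hc

/-- **S3509, `HS`** -/
theorem rc_hs {S : Type} [Group S] [Finite S] (hs : IsSimpleGroup S) (hn : ¬ IsMulCommutative S)
    (h : Cfsg.Spor.IsoHS S) : RC S := rc_of_noCov hs hn (noCov_hs h)

end Cfsg.Agent.H344.RR.HSF
end

-- part: H344/RR/HSRowX
section
/-!
# S3509: `HS` as a row of the dispatcher (helper344)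
-/

namespace Cfsg.Agent.H344.RR

open Cfsg.Agent.H873.RG

/-- **the row `HS`** -/
theorem row_hs : RowX (fun S _ => Cfsg.Spor.IsoHS S) :=
  Cfsg.Agent.H867.RG.RowX.of_simple fun _ _ _ hs hn h => HSF.rc_hs hs hn h

end Cfsg.Agent.H344.RR
end

private theorem dce_4ccf5869ddf7 : _root_.True := by
  try have : _root_.True := by simp only [_root_.Cfsg.Agent.H344.RR.HSF.el.eq_1]
  try have : _root_.True := by simp only [_root_.Cfsg.Agent.H344.RR.HSF.chk3.eq_1]
  try have : _root_.True := by simp only [_root_.Cfsg.Agent.H344.RR.HSF.chk5.eq_1]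
  try have : _root_.True := by simp only [_root_.Cfsg.Agent.H344.RR.HSF.el3.eq_1]
  exact _root_.True.intro
end

-- part: H31/RC/Spor/Th
section
set_option linter.all false
open scoped Cfsg.Agent.FastGrp

/-!
# S3509, the Thompson group (helper31)

* `eight_three` : `8 ∣ |C(w)|` for `w` of order 3;
* `noCov_th`, `rc_th` : the row `Th`.
-/

set_option autoImplicit false
open Cfsg

namespace Cfsg.Agent.H31.RC.Spor

open MulAction Subgroup Cfsg.Agent.H106.RC

section pairs

variable {G : Type*} [Group G]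

/-- the family of two elements -/
def two (a b : G) : Bool → G := fun c => cond c a b

/-- two commuting elements of different prime orders -/
theorem pf_two {a b : G} {p q : ℕ} (hp : p.Prime) (hq : q.Prime) (hpq : p ≠ q) (ha : orderOf a = p)
    (hb : orderOf b = q) (hab : a * b = b * a) : PF (two a b) (fun c => cond c p q) := by
  refine ⟨?_, ?_, ?_, ?_, ?_⟩
  · rintro (_ | _)
    · exact hq
    · exact hp
  · rintro (_ | _) (_ | _) h
    · rfl
    · exact absurd h.symm hpq
    · exact absurd h hpq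
    · rfl
  · rintro (_ | _)
    · show b ^ q = 1
      rw [← hb, pow_orderOf_eq_one]
    · show a ^ p = 1
      rw [← ha, pow_orderOf_eq_one]
  · rintro (_ | _) h
    · rw [show b = 1 from h, orderOf_one] at hb
      exact hq.one_lt.ne hb
    · rw [show a = 1 from h, orderOf_one] at ha
      exact hp.one_lt.ne ha
  · rintro (_ | _) (_ | _)
    · rfl
    · exact hab.symm
    · exact hab
    · rfl

theorem cov_two {Ω : Type*} [MulAction G Ω] {a b : G} (h : ∀ ω : Ω, a • ω = ω ∨ b • ω = ω) : Cov Ω (two a b) := by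
  intro ω
  rcases h ω with h | h
  · exact ⟨true, h⟩
  · exact ⟨false, h⟩

theorem orderOf_of_pf {ι : Type*} {x : ι → G} {r : ι → ℕ} (h : PF x r) (i : ι) : orderOf (x i) = r i := by
  have hf : Fact (r i).Prime := ⟨h.prime i⟩
  exact orderOf_eq_prime (h.pow i) (h.ne i)

theorem card_cent_conj (g x : G) :
    Nat.card (centralizer ({g * x * g⁻¹} : Set G)) = Nat.card (centralizer ({x} : Set G)) := by
  refine Nat.card_congr ⟨fun y => ⟨g⁻¹ * y * g, ?_⟩, fun y => ⟨g * y * g⁻¹, ?_⟩, ?_, ?_⟩
  · have h1 := mem_centralizer_singleton_iff.1 y.2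
    rw [mem_centralizer_singleton_iff]
    calc g⁻¹ * y * g * x = g⁻¹ * (y * (g * x * g⁻¹)) * g := by group
      _ = g⁻¹ * ((g * x * g⁻¹) * y) * g := by rw [h1]
      _ = x * (g⁻¹ * y * g) := by group
  · have h1 := mem_centralizer_singleton_iff.1 y.2
    rw [mem_centralizer_singleton_iff]
    calc g * y * g⁻¹ * (g * x * g⁻¹) = g * (y * x) * g⁻¹ := by group
      _ = g * (x * y) * g⁻¹ := by rw [h1]
      _ = g * x * g⁻¹ * (g * y * g⁻¹) := by group
  · intro y
    apply Subtype.ext
    show g * (g⁻¹ * (y : G) * g) * g⁻¹ = y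
    group
  · intro y
    apply Subtype.ext
    show g⁻¹ * (g * (y : G) * g⁻¹) * g = y
    group

/-- `q ∣ |C(x)|` for commuting elements -/
theorem dvd_cent [Finite G] {x y : G} {q : ℕ} (hy : orderOf y = q) (hxy : y * x = x * y) :
    q ∣ Nat.card (centralizer ({x} : Set G)) := by
  have h1 : y ∈ centralizer ({x} : Set G) := mem_centralizer_singleton_iff.2 hxy
  have h2 := Subgroup.orderOf_dvd_natCard _ h1
  rwa [hy] at h2

end pairs

namespace Th

open Cfsg.Agent.Th.Base Cfsg.Agent.Th.Word Cfsg.Agent.Th.CStruct Cfsg.Agent.Th.IndexUpper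
open Cfsg.Agent.KFacts.Th.Mask Cfsg.Agent.KFacts.Th.Struct
open Cfsg.Agent.CpAutTh.Data Cfsg.Agent.CpAutTh.Local Cfsg.Agent.BpSpor.ThCent

theorem fin : Finite Spor.Th := Nat.finite_of_card_ne_zero (by rw [Cfsg.Agent.H723.Spor.Th.card_th]; norm_num)

theorem simple : IsSimpleGroup Spor.Th := Cfsg.Agent.Th.Main1700.isTh.1

/-- **`8 ∣ |C(w)|` for `w` of order 3** -/
theorem eight_three {w : Spor.Th} (hw : orderOf w = 3) : 8 ∣ Nat.card (centralizer ({w} : Set Spor.Th)) := by
  have := fin
  have h := Cfsg.Agent.KFacts.Th.Main.ctx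
  obtain ⟨f, F⟩ := exists_epi h
  obtain ⟨t, ht, hwt⟩ := Cfsg.Agent.H478.ThThree.exists_invol hw
  obtain ⟨g, hg⟩ := Cfsg.Agent.H723.Spor.Th.hone t ht
  have hc : (g * w * g⁻¹) * gTh 1 = gTh 1 * (g * w * g⁻¹) := by
    rw [← hg]
    calc g * w * g⁻¹ * (g * t * g⁻¹) = g * (w * t) * g⁻¹ := by group
      _ = g * (t * w) * g⁻¹ := by rw [hwt]
      _ = g * t * g⁻¹ * (g * w * g⁻¹) := by group
  have hmem := h.mem_C.2 hc
  let x : sub gTh isC := ⟨g * w * g⁻¹, hmem⟩
  have hx : orderOf x = 3 := by
    rw [← Subgroup.orderOf_coe]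
    show orderOf (g * w * g⁻¹) = 3
    rw [← hw]
    exact orderOf_injective (MulAut.conj g).toMonoidHom (MulAut.conj g).injective w
  have key : ∀ {X : List ℕ} (hX : ∀ x ∈ X, isC x = true), 8 ∣ Nat.card (centralizer ({ev gTh X} : Set Spor.Th)) →
      ∀ c : sub gTh isC, c * x * c⁻¹ = ⟨ev gTh X, ev_mem_sub hX⟩ → 8 ∣ Nat.card (centralizer ({w} : Set Spor.Th)) := by
    intro X hX h8 c hcx
    have h1 : (c : Spor.Th) * (g * w * g⁻¹) * (c : Spor.Th)⁻¹ = ev gTh X := congrArg Subtype.val hcx
    rw [← h1, card_cent_conj, card_cent_conj] at h8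
    exact h8
  obtain ⟨c, hc3⟩ := exists_rep_three h F hx
  rcases hc3 with h1 | h1 | h1
  · refine key c3 ?_ c h1
    have h2 := Cfsg.Agent.BpSpor.ThThree.range_card h F
    have h3 : 1080 ∣ Nat.card ↥(centralizer ({sx h c3} : Set ↥(centralizer ({ev gTh X3} : Set Spor.Th)))) := by
      rw [← h2]
      exact Subgroup.card_range_dvd _
    exact (show 8 ∣ 1080 by norm_num).trans (h3.trans (Subgroup.card_subgroup_dvd_card _))
  · refine key c33 ?_ c h1
    have h2 := Cfsg.Agent.CpAutTh.ThreeE.card_E h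
    have h3 : Nat.card ↥(Cfsg.Agent.CpAutTh.ThreeE.E gTh) ∣ Nat.card (centralizer ({ev gTh X33} : Set Spor.Th)) :=
      Subgroup.card_dvd_of_le inf_le_right
    rw [h2] at h3
    exact (show 8 ∣ 32 by norm_num).trans h3
  · exact key c333 (Cfsg.Agent.H555.Hall.ThC.eight h) c h1

theorem not_comm : ¬ IsMulCommutative Spor.Th := by
  intro hc
  have h := Cfsg.Agent.KFacts.Th.Main.large Cfsg.Agent.KFacts.Th.Main.ctx
  have h1 : ∀ x ∈ Q0 gTh, x = 1 ∨ x = gTh 1 := fun x hx => h.cent x hx fun y _ => hc.is_comm.comm x y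
  have h2 : Nat.card (Q0 gTh) ≤ 2 := by
    classical
    have h3 : ((Q0 gTh : Subgroup Spor.Th) : Set Spor.Th) ⊆ (({1, gTh 1} : Finset Spor.Th) : Set Spor.Th) := by
      intro x hx
      rcases h1 x hx with rfl | rfl <;> simp
    calc Nat.card (Q0 gTh) = ((Q0 gTh : Subgroup Spor.Th) : Set Spor.Th).ncard := rfl
      _ ≤ (({1, gTh 1} : Finset Spor.Th) : Set Spor.Th).ncard := Set.ncard_le_ncard h3 (Finset.finite_toSet _)
      _ ≤ 2 := by rw [Set.ncard_coe_finset]; exact Finset.card_le_two
  rw [Cfsg.Agent.KFacts.Th.Main.ctx.cardQ] at h2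
  norm_num at h2

theorem prime_cases {q : ℕ} (hq : q.Prime) (hd : q ∣ 90745943887872000) :
    q = 2 ∨ q = 3 ∨ q = 5 ∨ q = 7 ∨ q = 13 ∨ q = 19 ∨ q = 31 := by
  have h1 : q ∈ Nat.primeFactors 90745943887872000 := Nat.mem_primeFactors.2 ⟨hq, hd, by norm_num⟩
  have h2 : 90745943887872000 = 2 ^ 15 * 3 ^ 10 * 5 ^ 3 * 7 ^ 2 * 13 * 19 * 31 := by norm_num
  rw [h2] at hd
  have hp : ∀ {p : ℕ}, p.Prime → q ∣ p → q = p := fun hp h => (Nat.prime_dvd_prime_iff_eq hq hp).1 h
  rcases hq.dvd_mul.1 hd with hd | hd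
  · rcases hq.dvd_mul.1 hd with hd | hd
    · rcases hq.dvd_mul.1 hd with hd | hd
      · rcases hq.dvd_mul.1 hd with hd | hd
        · rcases hq.dvd_mul.1 hd with hd | hd
          · rcases hq.dvd_mul.1 hd with hd | hd
            · exact Or.inl (hp (by norm_num) (hq.dvd_of_dvd_pow hd))
            · exact Or.inr (Or.inl (hp (by norm_num) (hq.dvd_of_dvd_pow hd)))
          · exact Or.inr (Or.inr (Or.inl (hp (by norm_num) (hq.dvd_of_dvd_pow hd))))
        · exact Or.inr (Or.inr (Or.inr (Or.inl (hp (by norm_num) (hq.dvd_of_dvd_pow hd)))))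
      · exact Or.inr (Or.inr (Or.inr (Or.inr (Or.inl (hp (by norm_num) hd)))))
    · exact Or.inr (Or.inr (Or.inr (Or.inr (Or.inr (Or.inl (hp (by norm_num) hd))))))
  · exact Or.inr (Or.inr (Or.inr (Or.inr (Or.inr (Or.inr (hp (by norm_num) hd))))))

/-- commuting elements of different odd prime orders: one of them has order 3, the other one 5, 7 or 13 -/
theorem pair_orders {x y : Spor.Th} {p q : ℕ} (hp : p.Prime) (hq : q.Prime) (hpq : p ≠ q) (hp2 : p ≠ 2) (hq2 : q ≠ 2)
    (hx : orderOf x = p) (hy : orderOf y = q) (hxy : x * y = y * x) :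
    (p = 3 ∧ (q = 5 ∨ q = 7 ∨ q = 13)) ∨ (q = 3 ∧ (p = 5 ∨ p = 7 ∨ p = 13)) := by
  have := fin
  have hpd : p ∣ 90745943887872000 := by
    rw [← Cfsg.Agent.H723.Spor.Th.card_th, ← hx]; exact orderOf_dvd_natCard x
  have hqd : q ∣ 90745943887872000 := by
    rw [← Cfsg.Agent.H723.Spor.Th.card_th, ← hy]; exact orderOf_dvd_natCard y
  have h1 := dvd_cent hy hxy.symm
  have h2 := dvd_cent hx hxy
  have k5 := fun (z : Spor.Th) (hz : orderOf z = 5) => Cfsg.Agent.H502.TO.card_five hz
  have k7 := fun (z : Spor.Th) (hz : orderOf z = 7) => Cfsg.Agent.H491.PB.Th.card_seven hz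
  have k19 := fun (z : Spor.Th) (hz : orderOf z = 19) => Cfsg.Agent.H491.PB.Th.card_nineteen hz
  have k31 := fun (z : Spor.Th) (hz : orderOf z = 31) => Cfsg.Agent.H491.PB.Th.card_thirtyone hz
  rcases prime_cases hp hpd with rfl | rfl | rfl | rfl | rfl | rfl | rfl <;>
    rcases prime_cases hq hqd with rfl | rfl | rfl | rfl | rfl | rfl | rfl <;>
    first
      | exact absurd rfl hp2
      | exact absurd rfl hq2
      | exact absurd rfl hpq
      | (left; refine ⟨rfl, ?_⟩; norm_num; done)
      | (right; refine ⟨rfl, ?_⟩; norm_num; done)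
      | (exfalso; rw [k5 x hx] at h1; revert h1; norm_num; done)
      | (exfalso; rw [k5 y hy] at h2; revert h2; norm_num; done)
      | (exfalso; rw [k7 x hx] at h1; revert h1; norm_num; done)
      | (exfalso; rw [k7 y hy] at h2; revert h2; norm_num; done)
      | (exfalso; rw [k19 x hx] at h1; revert h1; norm_num; done)
      | (exfalso; rw [k19 y hy] at h2; revert h2; norm_num; done)
      | (exfalso; rw [k31 x hx] at h1; revert h1; norm_num; done)
      | (exfalso; rw [k31 y hy] at h2; revert h2; norm_num; done)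

section cover

variable {Ω : Type} [Finite Ω] [Nonempty Ω] [MulAction Spor.Th Ω]

/-- families commuting with an involution -/
theorem dead_inv (hF : ∀ t : Spor.Th, t ≠ 1 → ∃ ω : Ω, t • ω ≠ ω) {ι : Type} [Finite ι] {x : ι → Spor.Th} {r : ι → ℕ}
    (h : PF x r) (hc : Cov Ω x) {t : Spor.Th} (ht : orderOf t = 2) (hcomm : ∀ i, x i * t = t * x i)
    (h2 : ∀ i, r i = 2 → x i = t) : False := by
  have := fin
  obtain ⟨g, hg⟩ := Cfsg.Agent.H723.Spor.Th.hone t ht
  have L := Large.conj (Cfsg.Agent.KFacts.Th.Main.large Cfsg.Agent.KFacts.Th.Main.ctx) g⁻¹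
  have e : g⁻¹ * gTh 1 * g⁻¹⁻¹ = t := by rw [← hg]; group
  rw [e] at L
  exact ruleA hF h hc L hcomm h2

/-- odd pairs -/
theorem dead_pair (hF : ∀ t : Spor.Th, t ≠ 1 → ∃ ω : Ω, t • ω ≠ ω) {x y : Spor.Th} {q : ℕ} (hx : orderOf x = 3)
    (hy : orderOf y = q) (hq : q = 5 ∨ q = 7 ∨ q = 13) (hxy : x * y = y * x)
    (hc : ∀ ω : Ω, x • ω = ω ∨ y • ω = ω) : False := by
  have := fin
  have hqp : q.Prime := by rcases hq with rfl | rfl | rfl <;> norm_num
  have hq3 : (3 : ℕ) ≠ q := by rcases hq with rfl | rfl | rfl <;> norm_num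
  have hq2 : q ≠ 2 := by rcases hq with rfl | rfl | rfl <;> norm_num
  have hno : ∀ t : Spor.Th, orderOf t = 2 → t * x = x * t → t * y = y * t → False := by
    intro t ht h1 h2
    refine dead_inv hF (pf_two Nat.prime_three hqp hq3 hx hy hxy) (cov_two hc) ht ?_ ?_
    · rintro (_ | _)
      · exact h2.symm
      · exact h1.symm
    · rintro (_ | _) h
      · exact absurd h hq2
      · exact absurd h (by norm_num)
  have hdone : ∀ {z : Spor.Th} {p : ℕ}, p.Prime → p ≠ 2 → orderOf z = p →
      (∃ t : Spor.Th, orderOf t = 2 ∧ t * z = z * t ∧ ∀ ω : Ω, z • ω = ω ∨ t • ω = ω) → False := by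
    rintro z p hp hp2 hz ⟨t, ht, h1, h2⟩
    refine dead_inv hF (pf_two hp Nat.prime_two hp2 hz ht h1.symm) (cov_two h2) ht ?_ ?_
    · rintro (_ | _)
      · rfl
      · exact h1.symm
    · rintro (_ | _) h
      · rfl
      · exact absurd h hp2
  have hc' : ∀ ω : Ω, y • ω = ω ∨ x • ω = ω := fun ω => (hc ω).symm
  rcases hq with rfl | rfl | rfl
  · refine hdone (by norm_num) (by norm_num) hy (pair_even (x := y) (y := x) hxy 3 Nat.prime_three hx ?_ ?_ ?_
      (fun t ht h1 h2 => hno t ht h2 h1) hc')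
    · rw [Cfsg.Agent.H502.TO.card_five hy]; norm_num
    · rw [Cfsg.Agent.H502.TO.card_five hy]; norm_num
    · norm_num
  · refine hdone (by norm_num) (by norm_num) hy (pair_even (x := y) (y := x) hxy 3 Nat.prime_three hx ?_ ?_ ?_
      (fun t ht h1 h2 => hno t ht h2 h1) hc')
    · rw [Cfsg.Agent.H491.PB.Th.card_seven hy]; norm_num
    · rw [Cfsg.Agent.H491.PB.Th.card_seven hy]; norm_num
    · norm_num
  · refine hdone Nat.prime_three (by norm_num) hx (pair_even (x := x) (y := y) hxy.symm 3 (by norm_num) hy ?_ ?_ ?_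
      hno hc)
    · intro hd
      have h1 := hd.trans (Subgroup.card_subgroup_dvd_card _)
      rw [Cfsg.Agent.H723.Spor.Th.card_th] at h1
      revert h1
      norm_num
    · exact eight_three hx
    · norm_num

end cover

theorem noCov_th : NoCov Spor.Th := by
  have := fin
  refine Cfsg.Agent.H867.RC.noCov_of_inner Cfsg.Agent.KFacts.Th.Main.inner ?_
  intro Ω _ _ _ hE ι _ x r hx hc _
  have hF : ∀ t : Spor.Th, t ≠ 1 → ∃ ω : Ω, t • ω ≠ ω := fun t ht => hE.exists_move ht
  -- no involution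
  have h2 : ∀ i, r i ≠ 2 := by
    intro i hi
    refine dead_inv hF hx hc (t := x i) (by rw [orderOf_of_pf hx, hi]) (fun j => hx.comm _ _) ?_
    intro j hj
    rw [hx.inj (hj.trans hi.symm)]
  obtain ⟨ω⟩ := (inferInstance : Nonempty Ω)
  obtain ⟨i, -⟩ := hc ω
  obtain ⟨j, hji⟩ := Cov.two hE hc hx.ne i
  have hpo : ∀ {i j : ι}, j ≠ i → (r i = 3 ∧ (r j = 5 ∨ r j = 7 ∨ r j = 13)) ∨ (r j = 3 ∧ (r i = 5 ∨ r i = 7 ∨ r i = 13)) :=
    fun {i j} hji => pair_orders (hx.prime i) (hx.prime j) (fun h => hji (hx.inj h).symm) (h2 i) (h2 j)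
      (orderOf_of_pf hx i) (orderOf_of_pf hx j) (hx.comm i j)
  -- only two members
  have htwo : ∀ k, k = i ∨ k = j := by
    intro k
    by_contra hk
    push Not at hk
    have h1 := hpo hji
    have h3 := hpo hk.1
    have h4 := hpo hk.2
    have h5 : r i ≠ r j := fun h => hji (hx.inj h).symm
    have h6 : r k ≠ r i := fun h => hk.1 (hx.inj h)
    have h7 : r k ≠ r j := fun h => hk.2 (hx.inj h)
    omega
  have hcij : ∀ ω : Ω, x i • ω = ω ∨ x j • ω = ω := by
    intro ω
    obtain ⟨k, hk⟩ := hc ω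
    rcases htwo k with rfl | rfl
    · exact Or.inl hk
    · exact Or.inr hk
  rcases hpo hji with ⟨h3, hq⟩ | ⟨h3, hq⟩
  · exact dead_pair hF ((orderOf_of_pf hx i).trans h3) (orderOf_of_pf hx j) hq (hx.comm i j) hcij
  · exact dead_pair hF ((orderOf_of_pf hx j).trans h3) (orderOf_of_pf hx i) hq (hx.comm j i)
      (fun ω => (hcij ω).symm)

/-- **the row `Th`** -/
theorem rc_th : RC Spor.Th := by
  have := fin
  exact rc_of_noCov simple not_comm noCov_th

/-- **the row `Th`** -/
theorem row_th {S : Type} [Group S] (h : Spor.IsoTh S) : RC S := by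
  obtain ⟨e⟩ := h
  exact RC.congr e.symm rc_th

end Th

end Cfsg.Agent.H31.RC.Spor
end

-- part: H171/RG/Co1Cert
section
set_option linter.all false
open scoped Cfsg.Agent.FastGrp

/-!
# `Co1`: explicit pairs of conjugate elements (helper171, S3509)

For the classes 3B, 3C, 3D, 5A, 5B, 5C, 7A, 7B (letters `4`, `5`, `6`, `[7, 7, 9]`, `7`, `8`, `10`, `11` of
`H861/Gen/CoOneCert`): two conjugates generate `Co1`; 2B, 2C invert an element of order 11; 3A is in a subgroup `A₄`
with involutions in 2B.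
-/

set_option autoImplicit false
set_option maxRecDepth 100000

namespace Cfsg.Agent.H171.RG.Co1

open Cfsg Subgroup Cfsg.Agent.SporadicA Cfsg.Agent.SporadicStructure.Co0Matrix Cfsg.Agent.CoOneType.CoEval
open Cfsg.Agent.LThreeCo1.Ev Cfsg.Agent.H861.Gen.CoEv Cfsg.Agent.H147.Gen Cfsg.Agent.H940 Cfsg.Agent.H940.Eng Cfsg.Agent.H147.Fpr
open Cfsg.Agent.H861.Gen.CoOne
open Cfsg.Spor (Co1)

/-- the check: `gi` is the inverse of `gw`, words in `c` and `g c g⁻¹` of orders `23` and `13 k` -/
def ck (cw gw gi : List ℕ) (w23 w13 : List Bool) (k : ℕ) : Bool :=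
  ((((neP M cw 1 && relP M (gi ++ gw) 1) && relP M (sub cw (gi ++ cw ++ gw) w23) 23) &&
    neP M (sub cw (gi ++ cw ++ gw) w23) 1) && relP M (sub cw (gi ++ cw ++ gw) w13) (k * 13)) &&
    neP M (sub cw (gi ++ cw ++ gw) w13) k

theorem V_conj {cw gw gi : List ℕ} (h : relP M (gi ++ gw) 1 = true) :
    V e (gi ++ cw ++ gw) = V e gw * V e cw * (V e gw)⁻¹ := by
  have h1 := pow_eq_one_of_relP hM h
  rw [pow_one, V_append] at h1
  rw [V_append, V_append, ← mul_assoc, (inv_eq_of_mul_eq_one_right h1).symm]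

theorem two_of_ck (B : Base) {cw gw gi : List ℕ} {w23 w13 : List Bool} {k : ℕ} (h : ck cw gw gi w23 w13 k = true) :
    V e cw ≠ 1 ∧ closure {V e cw, V e gw * V e cw * (V e gw)⁻¹} = ⊤ := by
  have := CoOne.fin
  unfold ck at h
  simp only [Bool.and_eq_true] at h
  obtain ⟨⟨⟨⟨⟨h1, h2⟩, h3⟩, h4⟩, h5⟩, h6⟩ := h
  have g1 := pow_ne_one_of_neP hM h1
  have g3 := pow_eq_one_of_relP hM h3
  have g4 := pow_ne_one_of_neP hM h4
  have g5 := pow_eq_one_of_relP hM h5
  have g6 := pow_ne_one_of_neP hM h6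
  rw [pow_one] at g1 g4
  rw [← V_conj h2]
  refine ⟨g1, gen_of B ?_ ?_⟩
  · exact H147.Fpr.dvd_card_of_mem (w := V e (sub cw (gi ++ cw ++ gw) w23)) (m := 1) (sub_mem _ _ _) (by norm_num)
      (by rw [one_mul, g3]) (by rw [pow_one]; exact g4)
  · exact H147.Fpr.dvd_card_of_mem (w := V e (sub cw (gi ++ cw ++ gw) w13)) (m := k) (sub_mem _ _ _) (by norm_num) g5 g6

/-- the check -/
def ci (tw gw gi : List ℕ) (k : ℕ) : Bool :=
  (((neP M tw 1 && relP M tw 2) && relP M (gi ++ gw) 1) && relP M (sub tw (gi ++ tw ++ gw) [false, true]) (k * 11)) &&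
    neP M (sub tw (gi ++ tw ++ gw) [false, true]) k

/-- the word `c⁻¹ g c g⁻¹` -/
def aw : List ℕ := sub [3] ([25, 23, 19] ++ [3] ++ [18, 22, 24]) [false, false, true]

/-! ### faster evaluation -/

private noncomputable def zl (a : List ℤ) : List ℤ → List ℤ :=
  List.rec (motive := fun _ => List ℤ → List ℤ) (fun _ => [])
    (fun x _ ih r => List.rec (motive := fun _ => List ℤ) ((0 + (BB : ℤ) * x) :: ih [])
      (fun y s _ => (y + (BB : ℤ) * x) :: ih s) r) a

private theorem zl_eq (n : ℕ) : ∀ (f : ℕ → ℤ) (r : List ℤ),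
    zl ((List.range n).map f) r = (List.range n).map fun j => r.getD j 0 + BB * f j := by
  induction n with
  | zero => exact fun _ _ => rfl
  | succ n ih =>
    intro f r
    rw [List.range_succ_eq_map, List.map_cons, List.map_cons, List.map_map, List.map_map]
    cases r with
    | nil => exact congrArg _ (ih _ [])
    | cons y s => exact congrArg _ (ih _ s)

private noncomputable def colsF (R : List (List ℤ)) : List ℤ :=
  List.rec (motive := fun _ => List ℤ) ((List.range 24).map fun _ => 0) (fun r _ ih => zl ih r) R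

private theorem colsF_eq (R : List (List ℤ)) : (List.range 24).map (colZ R) = colsF R := by
  induction R with
  | nil => rfl
  | cons r R ih =>
    show _ = zl (colsF R) r
    rw [← ih, zl_eq]
    rfl

private noncomputable def goF (cs : List ℕ) (k : ℕ) : ℕ → ℕ :=
  List.rec (motive := fun _ => ℕ → ℕ) (fun _ => k)
    (fun c _ ih X => Nat.add (Nat.mul (Nat.land X 0xffffffffffffffffffffffffffffffffffffffff) c) (ih (Nat.shiftRight X 160))) cs

private theorem go_F (cs : List ℕ) : ∀ X k, go cs X k = goF cs k X := by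
  have e : ∀ cs X k a, goF cs (k + a) X = goF cs k X + a := by
    intro cs
    induction cs with
    | nil => exact fun _ _ _ => rfl
    | cons c cs ih =>
      intro X k a
      show _ * c + goF cs (k + a) _ = _ * c + goF cs k _ + a
      rw [ih, Nat.add_assoc]
  induction cs with
  | nil => exact fun _ _ => rfl
  | cons c cs ih =>
    intro X k
    show go cs (X / 2 ^ 160) (k + X % 2 ^ 160 * c) = (X &&& (2 ^ 160 - 1)) * c + goF cs k (X >>> 160)
    rw [ih, e, Nat.and_two_pow_sub_one_eq_mod, Nat.shiftRight_eq_div_pow, Nat.add_comm]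

private noncomputable def preF (R : List (List ℤ)) : ℕ → ℕ :=
  goF ((colsF R).map fun z : ℤ => (z % TT).toNat)
    (((8 * HH) * ((List.range 24).map fun i => (BB : ℤ) ^ i).sum - HH * (colsF R).sum) % TT).toNat

private noncomputable def stepF (R : List (List ℤ)) (X : ℕ) : ℕ := Nat.shiftRight (Nat.mod (preF R X) TT) 3

private theorem step_F (R : List (List ℤ)) (X : ℕ) : step R X = stepF R X := by
  delta step stepF preF kZ colsN
  rw [← colsF_eq, List.map_map, go_F]
  exact (Nat.shiftRight_eq_div_pow _ 3).symm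

private noncomputable def runF (w : List ℕ) : ℕ → ℕ :=
  List.rec (motive := fun _ => ℕ → ℕ) (fun X => X)
    (fun i _ ih X => Nat.rec (motive := fun _ => ℕ) 0 (fun n _ => ih (Nat.succ n)) (stepF (M i) X)) w

private theorem run_F (w : List ℕ) : ∀ X, run M w X = runF w X := by
  induction w with
  | nil => exact fun _ => rfl
  | cons i w ih =>
    intro X
    show (match step (M i) X with | 0 => 0 | n + 1 => run M w (n + 1)) =
      Nat.rec (motive := fun _ => ℕ) 0 (fun n _ => runF w (Nat.succ n)) (stepF (M i) X)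
    rw [step_F]
    cases stepF (M i) X
    · rfl
    · exact ih _

private noncomputable def itrF (w : List ℕ) (n : ℕ) : ℕ → ℕ :=
  Nat.rec (motive := fun _ => ℕ → ℕ) (fun X => X)
    (fun _ ih X => Nat.rec (motive := fun _ => ℕ) 0 (fun n _ => ih (Nat.succ n)) (runF w X)) n

private theorem itr_F : itr M = itrF := by
  funext w n
  induction n with
  | zero => rfl
  | succ n ih =>
    funext X
    show (match run M w X with | 0 => 0 | k + 1 => itr M w n (k + 1)) =
      Nat.rec (motive := fun _ => ℕ) 0 (fun k _ => itrF w n (Nat.succ k)) (runF w X)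
    rw [run_F, ih]
    cases runF w X <;> rfl

private theorem all_ok : ([ck [4] [19] [18] [false, false, true, false, true] [false, false, true] 2,
    ck [5] [23, 26] [10, 22] [false, false, true] [false, true] 3,
    ck [6] [22, 7] [20, 23] [false, false, true, false, true, false, true, false, true, true] [false, false, true, false, false, true, false, true] 3,
    ck [7] [19, 22, 21] [27, 23, 18] [false, true] [false, false, true] 3,
    ck [8] [19, 23] [22, 18] [false, true] [false, false, true] 2,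
    ck [7, 7, 9] [10, 10] [26, 26] [false, true] [false, false, true] 1,
    ck [10] [22] [23] [false, false, true, false, true] [false, false, true, false, true, false, true, true] 1,
    ck [11] [7] [20] [false, true, false, true, true] [false, false, true, false, true] 2,
    ci [1] [21, 22] [23, 27] 3,
    ci [2] [18] [19] 1,
    Nat.beq (itr M aw 2 Eb) En,
    neP M aw 1,
    relP M aw 2,
    relP M ([3] ++ aw) 3].all fun b => b) = true := by
  delta ck ci relP neP
  rewrite [itr_F]
  decide +kernel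

private theorem all_get (i : ℕ) {b : Bool} (h : [ck [4] [19] [18] [false, false, true, false, true] [false, false, true] 2,
    ck [5] [23, 26] [10, 22] [false, false, true] [false, true] 3,
    ck [6] [22, 7] [20, 23] [false, false, true, false, true, false, true, false, true, true] [false, false, true, false, false, true, false, true] 3,
    ck [7] [19, 22, 21] [27, 23, 18] [false, true] [false, false, true] 3,
    ck [8] [19, 23] [22, 18] [false, true] [false, false, true] 2,
    ck [7, 7, 9] [10, 10] [26, 26] [false, true] [false, false, true] 1,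
    ck [10] [22] [23] [false, false, true, false, true] [false, false, true, false, true, false, true, true] 1,
    ck [11] [7] [20] [false, true, false, true, true] [false, false, true, false, true] 2,
    ci [1] [21, 22] [23, 27] 3,
    ci [2] [18] [19] 1,
    Nat.beq (itr M aw 2 Eb) En,
    neP M aw 1,
    relP M aw 2,
    relP M ([3] ++ aw) 3][i]? = some b) : b = true :=
  List.all_eq_true.1 all_ok b (List.mem_of_getElem? h)

theorem k3C : ck [4] [19] [18] [false, false, true, false, true] [false, false, true] 2 = true := all_get 0 rfl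

theorem k3D : ck [5] [23, 26] [10, 22] [false, false, true] [false, true] 3 = true := all_get 1 rfl

theorem k3B : ck [6] [22, 7] [20, 23] [false, false, true, false, true, false, true, false, true, true]
    [false, false, true, false, false, true, false, true] 3 = true := all_get 2 rfl

theorem k5B : ck [7] [19, 22, 21] [27, 23, 18] [false, true] [false, false, true] 3 = true := all_get 3 rfl

theorem k5C : ck [8] [19, 23] [22, 18] [false, true] [false, false, true] 2 = true := all_get 4 rfl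

theorem k5A : ck [7, 7, 9] [10, 10] [26, 26] [false, true] [false, false, true] 1 = true := all_get 5 rfl

theorem k7B : ck [10] [22] [23] [false, false, true, false, true]
    [false, false, true, false, true, false, true, true] 1 = true := all_get 6 rfl

theorem k7A : ck [11] [7] [20] [false, true, false, true, true] [false, false, true, false, true] 2 = true := all_get 7 rfl

/-! ### involutions inverting an element of order eleven -/

theorem inv_of_ci {tw gw gi : List ℕ} {k : ℕ} (h : ci tw gw gi k = true) :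
    V e tw ≠ 1 ∧ V e tw * V e tw = 1 ∧ ∃ g : Co1, (V e tw * (g * V e tw * g⁻¹)) ^ (k * 11) = 1 ∧
      (V e tw * (g * V e tw * g⁻¹)) ^ k ≠ 1 := by
  unfold ci at h
  simp only [Bool.and_eq_true] at h
  obtain ⟨⟨⟨⟨h1, h2⟩, h3⟩, h4⟩, h5⟩ := h
  have g1 := pow_ne_one_of_neP hM h1
  have g2 := pow_eq_one_of_relP hM h2
  have g4 := pow_eq_one_of_relP hM h4
  have g5 := pow_ne_one_of_neP hM h5
  rw [pow_one] at g1
  rw [pow_two] at g2
  rw [sub_cons, sub_cons, sub_nil, mul_one, if_neg (by simp), if_pos rfl, V_conj h3] at g4 g5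
  exact ⟨g1, g2, V e gw, g4, g5⟩

theorem i2C : ci [1] [21, 22] [23, 27] 3 = true := all_get 8 rfl

theorem i2B : ci [2] [18] [19] 1 = true := all_get 9 rfl

/-! ### the subgroup `A₄` for 3A -/

theorem sq_neg {w : List ℕ} (h : Nat.beq (itr M w 2 Eb) En = true) : G e w ^ 2 = Co0Basic.negCo0 := by
  have hs : ∀ g : Co0, Sm ((g.1 CoOneType.CoEval.beta : leechLattice) : GolayPt → ℤ) := smO_beta
  have h1 := Nat.eq_of_beq_eq_true h
  rw [itr_beta hM, ← E_negbeta] at h1
  have hb : Sm (vec betaL) := smO_beta 1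
  have hnb : Sm (vec negbetaL) := by
    rw [vec_negbetaL]
    intro p
    rw [Pi.neg_apply, abs_neg]
    exact hb p
  have h2 := E_inj (hs _) hnb h1
  apply eq_of_fix
  apply Subtype.ext
  rw [h2, Co0Basic.negCo0_apply, vec_negbetaL]
  rfl

theorem aw_sq : G e aw ^ 2 = Co0Basic.negCo0 := sq_neg (all_get 10 rfl)

theorem aw_ne : V e aw ≠ 1 := by
  have h := pow_ne_one_of_neP hM (w := aw) (n := 1) (all_get 11 rfl)
  rwa [pow_one] at h

theorem aw_mul : V e aw * V e aw = 1 := by
  have h := pow_eq_one_of_relP hM (w := aw) (n := 2) (all_get 12 rfl)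
  rwa [pow_two] at h

theorem aw_three : (V e aw * V e [3]) ^ 3 = 1 := by
  have h := pow_eq_one_of_relP hM (w := [3] ++ aw) (n := 3) (all_get 13 rfl)
  rwa [V_append] at h

/-- the involution is in the class 2B -/
theorem isConj_aw : IsConj (pr (e 2)) (V e aw) := by
  have h2 : e 2 * e 2 = Co0Mono.signCo0 SporadicA.Co1Simple.allOne := by
    rw [← CoOneType.ClosingFacts.neg_eq]
    exact BpSevenCo.Data.h0_sq
  have h3 : G e aw * G e aw = Co0Mono.signCo0 SporadicA.Co1Simple.allOne := by
    rw [← CoOneType.ClosingFacts.neg_eq, ← pow_two]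
    exact aw_sq
  obtain ⟨k, hk⟩ := CoOneType.ClosingMain.a1' _ h2
  obtain ⟨g, hg⟩ := CoOneType.ClosingMain.a1' _ h3
  refine isConj_iff.2 ⟨pr (g⁻¹ * k), ?_⟩
  have h4 : (g⁻¹ * k) * e 2 * (g⁻¹ * k)⁻¹ = G e aw := by
    calc (g⁻¹ * k) * e 2 * (g⁻¹ * k)⁻¹ = g⁻¹ * (k * e 2 * k⁻¹) * g := by group
      _ = g⁻¹ * (g * G e aw * g⁻¹) * g := by rw [hk, hg]
      _ = G e aw := by group
  show _ = pr (G e aw)
  rw [← h4]
  simp only [map_mul, map_inv]

end Cfsg.Agent.H171.RG.Co1
end

-- part: H171/RG/Co1Index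
section
set_option linter.all false
open scoped Cfsg.Agent.FastGrp

/-!
# `Co1` has no proper subgroup of index less than 1771 (helper171, S3509)

The index is divisible by 13 or 23 (`H861.Gen.CoOne.gen_of`); fixed points of the elements of order 11, 13, 23 and the engine of
helper940 for the other indices.
-/

set_option autoImplicit false
set_option maxRecDepth 100000

namespace Cfsg.Agent.H171.RG.Co1

open Cfsg Subgroup Cfsg.Agent.H940 Cfsg.Agent.H940.Eng Cfsg.Agent.H940.Eng.D Cfsg.Agent.H147.Fpr.CoOne Cfsg.Agent.H444.Fpr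
open Cfsg.Spor (Co1)

/-- the check for the indices `lo ≤ d < lo + n` -/
def ckIx (c e lo n : ℕ) : Bool :=
  (List.range n).all fun i => Nat.ble (lo + i) 1 || !Nat.beq (n_co1 % (lo + i)) 0 ||
    (!Nat.beq ((lo + i) % 13) 0 && !Nat.beq ((lo + i) % 23) 0) ||
    !adm [(23, 1, 11), (13, c, e), (11, 6, 10)] (lo + i) || bad l_co1 n_co1 [] 60 (loc c) o_co1 (n_co1 / (lo + i))

theorem ck_a : ckIx 12 12 0 1771 = true := by
  delta ckIx
  generalize hb : Cfsg.Agent.H940.Eng.bad _ _ _ _ _ _ = b
  revert b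
  exact Cfsg.Agent.H940.EngF.bad_gen (by decide +kernel)
theorem ck_b : ckIx 24 6 0 1771 = true := by
  delta ckIx
  generalize hb : Cfsg.Agent.H940.Eng.bad _ _ _ _ _ _ = b
  revert b
  exact Cfsg.Agent.H940.EngF.bad_gen (by decide +kernel)

theorem ck_spec {c e lo n d : ℕ} (h : ckIx c e lo n = true) (h1 : lo ≤ d) (h2 : d < lo + n) (h3 : 1 < d) (h4 : d ∣ n_co1)
    (h5 : 13 ∣ d ∨ 23 ∣ d) :
    adm [(23, 1, 11), (13, c, e), (11, 6, 10)] d = false ∨ bad l_co1 n_co1 [] 60 (loc c) o_co1 (n_co1 / d) = true := by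
  unfold ckIx at h
  rw [List.all_eq_true] at h
  have h6 := h (d - lo) (List.mem_range.2 (by omega))
  rw [show lo + (d - lo) = d by omega] at h6
  simp only [Bool.or_eq_true, Bool.and_eq_true, Bool.not_eq_true', bleT, beqF] at h6
  rcases h6 with (((h6 | h6) | h6) | h6) | h6
  · omega
  · exact absurd (Nat.mod_eq_zero_of_dvd h4) h6
  · omega
  · exact Or.inl h6
  · exact Or.inr h6

theorem index_aux (B : Base) {c e : ℕ} (hk : Known Co1 13 c e) (hce : c * e = 144) (hc : ckIx c e 0 1771 = true)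
    {X : Subgroup Co1} (hX : X ≠ ⊤) : 1771 ≤ X.index := by
  by_contra hlt
  push Not at hlt
  have hf := fin
  have hs := simple
  have hmul := card_mul_index X
  have hcd := card
  have hpos : 0 < X.index := Nat.pos_of_ne_zero Subgroup.index_ne_zero_of_finite
  have h1 : 1 < X.index := by
    by_contra h
    exact hX (Subgroup.index_eq_one.1 (by omega))
  have hdvd : X.index ∣ n_co1 := by rw [← hcd]; exact index_dvd_card X
  have h13 : 13 ∣ X.index ∨ 23 ∣ X.index := by
    by_contra hno
    push Not at hno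
    apply hX
    have key : ∀ q : ℕ, q.Prime → q ∣ n_co1 → ¬ q ∣ X.index → q ∣ Nat.card X := by
      intro q hq hqn hqi
      rw [← hcd, ← hmul] at hqn
      exact (hq.dvd_mul.1 hqn).resolve_right hqi
    exact H861.Gen.CoOne.gen_of B (key 23 (by norm_num) (by decide +kernel) hno.2) (key 13 (by norm_num) (by decide +kernel) hno.1)
  rw [hcd] at hmul
  have hdiv : n_co1 / X.index = Nat.card X := Nat.div_eq_of_eq_mul_left hpos hmul.symm
  rcases ck_spec hc (Nat.zero_le _) (by rw [zero_add]; exact hlt) h1 hdvd h13 with h2 | h2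
  · have h3 := adm_of_known (D := [(23, 1, 11), (13, c, e), (11, 6, 10)]) (D_ok hk) hX
    rw [h2] at h3
    exact absurd h3 (by decide)
  · rw [hdiv] at h2
    have C := ctx B hk hce
    have h3 := not_bad C.val C.card C.ords C.loc (full := []) (bd := 60) (H := X) (by simp) hX
    rw [h3] at h2
    exact absurd h2 (by decide)

/-- **no proper subgroup of index less than 1771** -/
theorem minIx (B : Base) : H345.RG.MinIx Co1 1771 := by
  intro X hX
  rcases known13 with h | h
  · exact index_aux B h (by norm_num) ck_a hX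
  · exact index_aux B h (by norm_num) ck_b hX

end Cfsg.Agent.H171.RG.Co1
end
end
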